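import Groth.Agent.Desc59.QEff.Mod
import Groth.Agent.EGA73.GammaStarIso

/-!
Effectivity of descent data of quasi-coherent modules for fpqc coverings.
-/

set_option autoImplicit false
set_option backward.isDefEq.respectTransparency false
set_option backward.isDefEq.respectTransparency.types false
set_option backward.defeqAttrib.useBackward true
set_option linter.style.haveILetI false
set_option linter.unusedSectionVars false

noncomputable section

universe u

open CategoryTheory Limits AlgebraicGeometry Opposite TopologicalSpace TensorProduct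
open Groth.Agent.QC70 Groth.Agent.QCPull72 Groth.Agent.LimTop61

namespace Groth.Agent.Desc59.QEff

variable {ι : Type u} {S : Scheme.{u}} {X : ι → Scheme.{u}} {f : ∀ i, X i ⟶ S}
  (D : Desc.modPF.{u}.DescentData f)

theorem pullback_map_unitSec {Y Z : Scheme.{u}} (g : Z ⟶ Y) {M N : Y.Modules} (φ : M ⟶ N) {V : Y.Opens} {W : Z.Opens}
    (h : W ≤ g ⁻¹ᵁ V) (y : Γ(M, V)) :
    ((Scheme.Modules.pullback g).map φ).app W (unitSec g M h y) = unitSec g N h (φ.app V y) := by
  rw [unitSec, unitSec, app_res]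
  exact congrArg _ (congr(Scheme.Modules.Hom.app
    $((Scheme.Modules.pullbackPushforwardAdjunction g).unit.naturality φ) V y)).symm

/-- the comparison map -/
def η (i : ι) : (Scheme.Modules.pullback (f i)).obj (dmod D) ⟶ Dm D i :=
  ((Scheme.Modules.pullbackPushforwardAdjunction (f i)).homEquiv _ _).symm (dπ D i)

theorem η_unitSec (i : ι) {U : S.Opens} {V : (X i).Opens} (e : V ≤ f i ⁻¹ᵁ U) (x : Γ(dmod D, U)) :
    (η D i).app V (unitSec (f i) (dmod D) e x) = res (Dm D i) e (mfam D x i) := by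
  rw [unitSec, app_res]
  have h1 := ((Scheme.Modules.pullbackPushforwardAdjunction (f i)).homEquiv _ _).apply_symm_apply (dπ D i)
  rw [Adjunction.homEquiv_unit] at h1
  exact congrArg _ congr(Scheme.Modules.Hom.app $h1 U x)

theorem hom_ext_unitSec {Y Z : Scheme.{u}} (g : Z ⟶ Y) {M : Y.Modules} {N : Z.Modules}
    {φ φ' : (Scheme.Modules.pullback g).obj M ⟶ N}
    (h : ∀ (U : Y.Opens) (x : Γ(M, U)), φ.app _ (unitSec g M (le_refl (g ⁻¹ᵁ U)) x) = φ'.app _ (unitSec g M (le_refl (g ⁻¹ᵁ U)) x)) :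
    φ = φ' := by
  apply ((Scheme.Modules.pullbackPushforwardAdjunction g).homEquiv _ _).injective
  refine Scheme.Modules.hom_ext _ _ fun U => ?_
  ext x
  rw [Adjunction.homEquiv_unit, Adjunction.homEquiv_unit]
  have h0 := h U x
  rw [unitSec, res_self] at h0
  exact h0

variable [QuasiCompactCover (⟨ι, X, f⟩ : PreZeroHypercover.{u} S)] [∀ i, Flat (f i)]
  [∀ i, (Dm D i).IsQuasicoherent]

theorem η_bijective {U : S.Opens} (hU : IsAffineOpen U) (q : Pc f U) :
    Function.Bijective ((η D q.idx).app q.V) := by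
  obtain ⟨N, P, hcov⟩ := exists_pieces (f := f) hU
  let P' : Option (Fin N) → Pc f U := fun o => o.elim q P
  have hcov' : ∀ x ∈ U, ∃ o, ∃ v ∈ (P' o).V, f (P' o).idx v = x := fun x hx => by
    obtain ⟨k, h⟩ := hcov x hx
    exact ⟨some k, h⟩
  haveI : Fact (IsAffineOpen U) := ⟨hU⟩
  haveI : (dmod D).IsQuasicoherent := isQuasicoherent_dmod D
  let ψ' := fun k l : Option (Fin N) => ψ (P' k) (P' l) D hU
  let Θ : Γ(dmod D, U) →ₗ[Γ(S, U)] Alg.invariant ψ' :=
    { toFun := fun x => ⟨fun o => res (Dm D (P' o).idx) (P' o).le (mfam D x (P' o).idx), fun k l =>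
        ψ_of_rel (P' k) (P' l) D hU ((mfam_cmp D x (P' k).idx (P' l).idx).res (P' k).le (P' l).le)⟩
      map_add' := fun x y => Subtype.ext (funext fun o =>
        (congrArg (res (Dm D (P' o).idx) (P' o).le) (map_add ((dπ D (P' o).idx).app U).hom x y)).trans (res_add _ _ _))
      map_smul' := fun r x => Subtype.ext (funext fun o => by
        show res (Dm D (P' o).idx) (P' o).le (mfam D (r • x) (P' o).idx) = _
        rw [mfam_smul, res_smul, appLE_res]
        rfl) }
  have hΘ : Function.Bijective Θ := by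
    constructor
    · intro x y h
      exact mfam_injective D (ext_unique P' hcov' (mfam_cmp D x) (mfam_cmp D y) fun o => congrFun (congrArg Subtype.val h) o)
    · rintro ⟨n, hn⟩
      obtain ⟨m, hm, -, hm'⟩ := exists_ext P' hU hcov' n (fun k l => rel_of_ψ (P' k) (P' l) D hU (hn k l))
      obtain ⟨x, rfl⟩ := exists_of_cmp D hm
      exact ⟨x, Subtype.ext (funext hm')⟩
  have hev := Alg.ev_bijective ψ' (fun k l => ψ_smul (P' k) (P' l) D hU)
    (fun k => ψ_unit (P' k) D hU) (fun k l m => ψ_cocycle (P' k) (P' l) (P' m) D hU) none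
  obtain ⟨E, hE⟩ := exists_baseChange_equiv (f q.idx) (dmod D) hU q.hV q.le
  let L := (LinearEquiv.ofBijective Θ hΘ).lTensor Γ(X q.idx, q.V)
  have key : ∀ w, (η D q.idx).app q.V (E.symm w) = Alg.ev ψ' none (L w) := by
    intro w
    induction w with
    | zero =>
      rw [LinearEquiv.map_zero E.symm, LinearEquiv.map_zero L, LinearMap.map_zero]
      exact map_zero ((η D q.idx).app q.V).hom
    | add w w' hw hw' =>
      rw [LinearEquiv.map_add E.symm, LinearEquiv.map_add L, LinearMap.map_add, ← hw, ← hw']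
      exact map_add ((η D q.idx).app q.V).hom _ _
    | tmul b x =>
      have hx : E.symm (b ⊗ₜ x) = b • unitSec (f q.idx) (dmod D) q.le x := by
        apply E.injective
        rw [E.apply_symm_apply, map_smul, hE, TensorProduct.smul_tmul', smul_eq_mul, mul_one]
      rw [hx, Scheme.Modules.Hom.app_smul, η_unitSec]
      rfl
  have hcomp : ((η D q.idx).app q.V : _ → _) ∘ E.symm = Alg.ev ψ' none ∘ L := funext key
  rw [← Function.Bijective.of_comp_iff _ E.symm.bijective, hcomp]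
  exact hev.comp L.bijective

theorem isIso_η (i : ι) : IsIso (η D i) := by
  haveI : (dmod D).IsQuasicoherent := isQuasicoherent_dmod D
  haveI : ((Scheme.Modules.pullback (f i)).obj (dmod D)).IsQuasicoherent := QCPull72.isQuasicoherent_pullback _ _
  let J := {V : (X i).Opens // IsAffineOpen V ∧ ∃ U : S.Opens, IsAffineOpen U ∧ V ≤ f i ⁻¹ᵁ U}
  refine EGA73.isIso_of_bijective_cover (η D i) (fun V : J => V.1) (fun V => V.2.1) (fun x => ?_) fun V => ?_
  · obtain ⟨U, hU, hx, -⟩ := exists_isAffineOpen_mem_and_subset (U := (⊤ : S.Opens)) (x := f i x) trivial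
    obtain ⟨V, hV, hxV, hle⟩ := exists_isAffineOpen_mem_and_subset (U := f i ⁻¹ᵁ U) (x := x) hx
    exact ⟨⟨V, hV, U, hU, hle⟩, hxV⟩
  · obtain ⟨V, hV, U, hU, hle⟩ := V
    exact η_bijective D hU ⟨i, V, hV, hle⟩

omit [QuasiCompactCover (⟨ι, X, f⟩ : PreZeroHypercover.{u} S)] [∀ i, Flat (f i)] [∀ i, (Dm D i).IsQuasicoherent] in
theorem pci_inv_unitSec {Y Z W' : Scheme.{u}} {g : Z ⟶ Y} {c : W' ⟶ Z} {h : W' ⟶ Y} (ec : c ≫ g = h) (M : Y.Modules)
    {U : Y.Opens} (wc : h ⁻¹ᵁ U ≤ c ⁻¹ᵁ (g ⁻¹ᵁ U)) (x : Γ(M, U)) :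
    ((pullbackCompIso g c ec).inv.app M).app (h ⁻¹ᵁ U) (unitSec h M (le_refl (h ⁻¹ᵁ U)) x) =
      unitSec c ((Scheme.Modules.pullback g).obj M) wc (unitSec g M (le_refl (g ⁻¹ᵁ U)) x) := by
  rw [← QSheaf.tr_unitSec ec M (le_refl (g ⁻¹ᵁ U)) wc (le_refl (h ⁻¹ᵁ U)) x]
  exact congr(Scheme.Modules.Hom.app $((pullbackCompIso g c ec).hom_inv_id_app M) (h ⁻¹ᵁ U)
    (unitSec c ((Scheme.Modules.pullback g).obj M) wc (unitSec g M (le_refl (g ⁻¹ᵁ U)) x)))

omit [QuasiCompactCover (⟨ι, X, f⟩ : PreZeroHypercover.{u} S)] [∀ i, Flat (f i)] [∀ i, (Dm D i).IsQuasicoherent] in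
theorem η_pci_unitSec {i : ι} {T : Scheme.{u}} {a : T ⟶ X i} {h : T ⟶ S} (ea : a ≫ f i = h) {U : S.Opens}
    (wa : h ⁻¹ᵁ U ≤ a ⁻¹ᵁ (f i ⁻¹ᵁ U)) (x : Γ(dmod D, U)) :
    ((pullbackCompIso (f i) a ea).inv.app (dmod D) ≫ (Scheme.Modules.pullback a).map (η D i)).app (h ⁻¹ᵁ U)
        (unitSec h (dmod D) (le_refl (h ⁻¹ᵁ U)) x) = unitSec a (Dm D i) wa (mfam D x i) := by
  rw [Scheme.Modules.Hom.comp_app, ConcreteCategory.comp_apply, pci_inv_unitSec ea (dmod D) wa]
  refine (pullback_map_unitSec a (η D i) wa _).trans (congrArg (unitSec a (Dm D i) wa) ?_)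
  exact (η_unitSec D i (le_refl _) x).trans (res_self _)

omit [QuasiCompactCover (⟨ι, X, f⟩ : PreZeroHypercover.{u} S)] [∀ i, Flat (f i)] [∀ i, (Dm D i).IsQuasicoherent] in
theorem η_comm {i j : ι} {T : Scheme.{u}} {a : T ⟶ X i} {b : T ⟶ X j} {h : T ⟶ S}
    (ea : a ≫ f i = h) (eb : b ≫ f j = h) :
    ((pullbackCompIso (f i) a ea).inv.app (dmod D) ≫ (Scheme.Modules.pullback a).map (η D i)) ≫ Dh D ea eb =
      (pullbackCompIso (f j) b eb).inv.app (dmod D) ≫ (Scheme.Modules.pullback b).map (η D j) := by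
  refine hom_ext_unitSec h fun U x => ?_
  rw [η_pci_unitSec D eb (preimage_comp_le (f j) b eb U), Scheme.Modules.Hom.comp_app, ConcreteCategory.comp_apply,
    η_pci_unitSec D ea (preimage_comp_le (f i) a ea U), ← sig_apply]
  exact mfam_cmp D x i j T a b h ea eb _ _ _

theorem effective :
    ∃ M : S.Modules, M.IsQuasicoherent ∧ Nonempty ((Desc.modPF.{u}.toDescentData f).obj M ≅ D) := by
  haveI := fun i => isIso_η D i
  refine ⟨dmod D, isQuasicoherent_dmod D,
    ⟨Pseudofunctor.DescentData.isoMk (fun i => asIso (η D i)) fun T h i j a b ea eb => ?_⟩⟩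
  dsimp only [Pseudofunctor.toDescentData, Pseudofunctor.DescentData.ofObj, asIso_hom]
  rw [ModPFBridge.mapComp'_inv_app (f i) a ea (dmod D), ModPFBridge.mapComp'_hom_app (f j) b eb (dmod D)]
  show (Scheme.Modules.pullback a).map (η D i) ≫ Dh D ea eb =
    ((pullbackCompIso (f i) a ea).hom.app (dmod D) ≫ (pullbackCompIso (f j) b eb).inv.app (dmod D)) ≫
      (Scheme.Modules.pullback b).map (η D j)
  rw [Category.assoc, ← η_comm D ea eb, Category.assoc, Iso.hom_inv_id_app_assoc]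

end Groth.Agent.Desc59.QEff
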