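import Mathlib.LinearAlgebra.TensorProduct.Pi
import Mathlib.RingTheory.Flat.Basic
import Mathlib.LinearAlgebra.TensorProduct.Associator
import Mathlib.Algebra.Module.LinearMap.End

/-!
Effective descent of modules along a finite family of flat algebras, in coordinates.
-/

set_option autoImplicit false

noncomputable section

universe u

open TensorProduct

namespace Groth.Agent.Desc59.QEff.Alg

variable {A : Type u} [CommRing A] {K : Type} [Fintype K] {B : K → Type u} [∀ k, CommRing (B k)]
  [∀ k, Algebra A (B k)] [∀ k, Module.Flat A (B k)] {N : K → Type u} [∀ k, AddCommGroup (N k)]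
  [∀ k, Module A (N k)] [∀ k, Module (B k) (N k)] [∀ k, IsScalarTower A (B k) (N k)]
  (ψ : ∀ k l, N k →ₗ[A] B k ⊗[A] N l)

/-- compatible families -/
def invariant : Submodule A (∀ k, N k) where
  carrier := {n | ∀ k l, ψ k l (n k) = (1 : B k) ⊗ₜ[A] n l}
  add_mem' := fun hn hn' k l => by
    rw [Pi.add_apply, Pi.add_apply, map_add, hn k l, hn' k l, TensorProduct.tmul_add]
  zero_mem' := fun k l => by simp
  smul_mem' := fun r n hn k l => by
    rw [Pi.smul_apply, Pi.smul_apply, map_smul, hn k l, TensorProduct.tmul_smul]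

theorem mem_invariant {n : ∀ k, N k} : n ∈ invariant ψ ↔ ∀ k l, ψ k l (n k) = (1 : B k) ⊗ₜ[A] n l := Iff.rfl

/-- evaluation at a member -/
def ev (m : K) : B m ⊗[A] invariant ψ →ₗ[A] N m :=
  TensorProduct.lift (((Algebra.lsmul A A (N m)).toLinearMap).compl₂
    ((LinearMap.proj m).comp (invariant ψ).subtype))

omit [∀ k, Module.Flat A (B k)] [Fintype K] in
theorem ev_tmul (m : K) (b : B m) (n : invariant ψ) : ev ψ m (b ⊗ₜ n) = b • n.1 m := rfl

theorem ev_bijective (hsm : ∀ k l (b : B k) (n : N k), ψ k l (b • n) = b • ψ k l n)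
    (hμ : ∀ k (n : N k), TensorProduct.lift (Algebra.lsmul A A (N k)).toLinearMap (ψ k k n) = n)
    (hco : ∀ k l m (n : N k), (ψ l m).lTensor (B k) (ψ k l n) =
      (TensorProduct.mk A (B l) (N m) 1).lTensor (B k) (ψ k m n)) (m : K) :
    Function.Bijective (ev ψ m) := by
  classical
  let δ : (∀ k, N k) →ₗ[A] ∀ p : K × K, B p.1 ⊗[A] N p.2 := LinearMap.pi fun p =>
    (ψ p.1 p.2).comp (LinearMap.proj p.1) - (TensorProduct.mk A (B p.1) (N p.2) 1).comp (LinearMap.proj p.2)
  have hexact : Function.Exact (invariant ψ).subtype δ := by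
    intro n
    constructor
    · intro hn
      refine ⟨⟨n, fun k l => ?_⟩, rfl⟩
      exact sub_eq_zero.mp (congrFun hn (k, l))
    · rintro ⟨x, rfl⟩
      funext p
      exact sub_eq_zero.mpr (x.2 p.1 p.2)
  let E := TensorProduct.piRight A A (B m) N
  let Ψ : N m →ₗ[A] ∀ k, B m ⊗[A] N k := LinearMap.pi fun k => ψ m k
  have hE : ∀ x, E ((invariant ψ).subtype.lTensor (B m) x) = Ψ (ev ψ m x) := by
    intro x
    induction x with
    | zero => simp
    | add x y hx hy => simp only [map_add, hx, hy]
    | tmul b n =>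
      funext k
      rw [LinearMap.lTensor_tmul]
      show E (b ⊗ₜ n.1) k = ψ m k (b • n.1 m)
      rw [hsm, n.2 m k, TensorProduct.smul_tmul', smul_eq_mul, mul_one]
      rfl
  have hΨ : Function.Injective Ψ := fun x y e => by
    rw [← hμ m x, ← hμ m y, show ψ m m x = ψ m m y from congrFun e m]
  constructor
  · intro x y e
    exact Module.Flat.lTensor_preserves_injective_linearMap (M := B m) _ Subtype.val_injective
      (E.injective (by rw [hE, hE, e]))
  · intro n
    let w : B m ⊗[A] (∀ k, N k) := E.symm (Ψ n)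
    have hw : δ.lTensor (B m) w = 0 := by
      let E2 := TensorProduct.piRight A A (B m) fun p : K × K => B p.1 ⊗[A] N p.2
      apply E2.injective
      funext p
      have h1 : ∀ v, E2 (δ.lTensor (B m) v) p = (ψ p.1 p.2).lTensor (B m) (E v p.1) -
          (TensorProduct.mk A (B p.1) (N p.2) 1).lTensor (B m) (E v p.2) := by
        intro v
        induction v with
        | zero => simp
        | add x y hx hy =>
          simp only [map_add, Pi.add_apply, hx, hy]
          abel
        | tmul b v =>
          simp [E, E2, δ, TensorProduct.tmul_sub]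
      rw [h1, map_zero, Pi.zero_apply]
      simp only [w, LinearEquiv.apply_symm_apply]
      exact sub_eq_zero.mpr (hco m p.1 p.2 n)
    obtain ⟨x, hx⟩ := (Module.Flat.lTensor_exact (B m) hexact w).mp hw
    refine ⟨x, hΨ ?_⟩
    rw [← hE, hx]
    exact E.apply_symm_apply _

end Groth.Agent.Desc59.QEff.Alg
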