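import Groth.Agent.Desc59.ModPFBridge

/-!
Calculus of sections for descent data of modules: `sig` transports a section by the gluing
isomorphism, `Rel` says that two sections are glued to one another.
-/

set_option autoImplicit false
set_option backward.isDefEq.respectTransparency false
set_option backward.isDefEq.respectTransparency.types false
set_option backward.defeqAttrib.useBackward true

noncomputable section

universe u

open CategoryTheory Limits AlgebraicGeometry Opposite TopologicalSpace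
open Groth.Agent.QC70 Groth.Agent.QCPull72 Groth.Agent.LimTop61

namespace Groth.Agent.Desc59.QEff

variable {ι : Type u} {S : Scheme.{u}} {X : ι → Scheme.{u}} {f : ∀ i, X i ⟶ S}
  (D : Desc.modPF.{u}.DescentData f)

/-- the modules of a descent datum -/
abbrev Dm (i : ι) : (X i).Modules := D.obj i

variable {i j k : ι} {T : Scheme.{u}} {a : T ⟶ X i} {b : T ⟶ X j} {c : T ⟶ X k} {h : T ⟶ S}

/-- the gluing morphisms of a descent datum -/
def Dh (ea : a ≫ f i = h) (eb : b ≫ f j = h) :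
    (Scheme.Modules.pullback a).obj (Dm D i) ⟶ (Scheme.Modules.pullback b).obj (Dm D j) :=
  D.hom h a b ea eb

theorem Dh_self (ea : a ≫ f i = h) : Dh D ea ea = 𝟙 _ := D.hom_self h a ea

theorem Dh_comp (ea : a ≫ f i = h) (eb : b ≫ f j = h) (ec : c ≫ f k = h) :
    Dh D ea eb ≫ Dh D eb ec = Dh D ea ec := D.hom_comp h a b c ea eb ec

theorem Dh_pull {T' : Scheme.{u}} (g : T' ⟶ T) {a' : T' ⟶ X i} {b' : T' ⟶ X j} {h' : T' ⟶ S}
    (ea : a ≫ f i = h) (eb : b ≫ f j = h) (ega : g ≫ a = a') (egb : g ≫ b = b')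
    (ea' : a' ≫ f i = h') (eb' : b' ≫ f j = h') :
    (pullbackCompIso a g ega).inv.app (Dm D i) ≫ (Scheme.Modules.pullback g).map (Dh D ea eb) ≫
      (pullbackCompIso b g egb).hom.app (Dm D j) = Dh D ea' eb' := by
  have h0 := D.pullHom_hom g h h' (by rw [← ea', ← ega, Category.assoc, ea]) a b ea eb a' b' ega egb
  simp only [Pseudofunctor.LocallyDiscreteOpToCat.pullHom] at h0
  rw [← ModPFBridge.mapComp'_hom_app a g ega, ← ModPFBridge.mapComp'_inv_app b g egb]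
  exact h0

/-- transport of a section by the gluing morphism -/
def sig (ea : a ≫ f i = h) (eb : b ≫ f j = h) {V : (X i).Opens} {W : T.Opens} (hW : W ≤ a ⁻¹ᵁ V) :
    Γ(Dm D i, V) →+ Γ((Scheme.Modules.pullback b).obj (Dm D j), W) :=
  AddMonoidHom.mk' (fun y => (Dh D ea eb).app W (unitSec a (Dm D i) hW y)) fun y y' =>
    (congrArg _ (unitSec_add a (Dm D i) hW y y')).trans (map_add _ _ _)

theorem sig_apply (ea : a ≫ f i = h) (eb : b ≫ f j = h) {V : (X i).Opens} {W : T.Opens} (hW : W ≤ a ⁻¹ᵁ V)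
    (y : Γ(Dm D i, V)) : sig D ea eb hW y = (Dh D ea eb).app W (unitSec a (Dm D i) hW y) := rfl

theorem sig_smul (ea : a ≫ f i = h) (eb : b ≫ f j = h) {V : (X i).Opens} {W : T.Opens} (hW : W ≤ a ⁻¹ᵁ V)
    (r : Γ(X i, V)) (y : Γ(Dm D i, V)) :
    sig D ea eb hW (r • y) = a.appLE V W hW r • sig D ea eb hW y :=
  (congrArg ((Dh D ea eb).app W) (unitSec_smul a (Dm D i) hW r y)).trans (Scheme.Modules.Hom.app_smul _ _ _)

theorem sig_res (ea : a ≫ f i = h) (eb : b ≫ f j = h) {V V' : (X i).Opens} {W W' : T.Opens}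
    (hW : W ≤ a ⁻¹ᵁ V) (hW' : W' ≤ a ⁻¹ᵁ V') (hV : V' ≤ V) (hWW : W' ≤ W) (y : Γ(Dm D i, V)) :
    sig D ea eb hW' (res (Dm D i) hV y) = res _ hWW (sig D ea eb hW y) :=
  (congrArg ((Dh D ea eb).app W') (unitSec_res a (Dm D i) hW hW' hV hWW y)).trans (app_res _ hWW _)

theorem sig_self (ea : a ≫ f i = h) {V : (X i).Opens} {W : T.Opens} (hW : W ≤ a ⁻¹ᵁ V) (y : Γ(Dm D i, V)) :
    sig D ea ea hW y = unitSec a (Dm D i) hW y := by
  rw [sig_apply, Dh_self]
  rfl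

theorem sig_comp (ea : a ≫ f i = h) (eb : b ≫ f j = h) (ec : c ≫ f k = h) {V : (X i).Opens} {W : T.Opens}
    (hW : W ≤ a ⁻¹ᵁ V) (y : Γ(Dm D i, V)) :
    (Dh D eb ec).app W (sig D ea eb hW y) = sig D ea ec hW y := by
  rw [sig_apply, sig_apply, ← Dh_comp D ea eb ec]
  rfl

theorem sig_tr {T' : Scheme.{u}} (g : T' ⟶ T) {a' : T' ⟶ X i} {b' : T' ⟶ X j} {h' : T' ⟶ S}
    (ea : a ≫ f i = h) (eb : b ≫ f j = h) (ega : g ≫ a = a') (egb : g ≫ b = b')
    (ea' : a' ≫ f i = h') (eb' : b' ≫ f j = h') {V : (X i).Opens} {W : T.Opens} (hW : W ≤ a ⁻¹ᵁ V)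
    {W' : T'.Opens} (hg : W' ≤ g ⁻¹ᵁ W) (hW' : W' ≤ a' ⁻¹ᵁ V) (y : Γ(Dm D i, V)) :
    QSheaf.tr egb (Dm D j) hg (sig D ea eb hW y) = sig D ea' eb' hW' y := by
  rw [sig_apply D ea' eb', ← Dh_pull D g ea eb ega egb ea' eb', ← QSheaf.tr_unitSec ega (Dm D i) hW hg hW' y]
  have h1 : unitSec g ((Scheme.Modules.pullback b).obj (Dm D j)) hg (sig D ea eb hW y) =
      ((Scheme.Modules.pullback g).map (Dh D ea eb)).app W'
        (unitSec g ((Scheme.Modules.pullback a).obj (Dm D i)) hg (unitSec a (Dm D i) hW y)) := by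
    rw [sig_apply]
    refine (congrArg (res _ hg) (congr(Scheme.Modules.Hom.app
      $((Scheme.Modules.pullbackPushforwardAdjunction g).unit.naturality (Dh D ea eb)) W
        (unitSec a (Dm D i) hW y)))).trans ?_
    exact (app_res _ hg _).symm
  show ((pullbackCompIso b g egb).hom.app (Dm D j)).app W' _ = ((pullbackCompIso b g egb).hom.app (Dm D j)).app W'
    (((Scheme.Modules.pullback g).map (Dh D ea eb)).app W' (((pullbackCompIso a g ega).inv.app (Dm D i)).app W'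
      (((pullbackCompIso a g ega).hom.app (Dm D i)).app W' _)))
  rw [h1]
  refine congrArg _ (congrArg _ ?_)
  exact (congr(Scheme.Modules.Hom.app $((pullbackCompIso a g ega).hom_inv_id_app (Dm D i)) W'
    (unitSec g ((Scheme.Modules.pullback a).obj (Dm D i)) hg (unitSec a (Dm D i) hW y)))).symm

/-- `y` is glued to `z`. -/
def Rel {i j : ι} {Vi : (X i).Opens} {Vj : (X j).Opens} (y : Γ(Dm D i, Vi)) (z : Γ(Dm D j, Vj)) : Prop :=
  ∀ (T : Scheme.{u}) (a : T ⟶ X i) (b : T ⟶ X j) (h : T ⟶ S) (ea : a ≫ f i = h) (eb : b ≫ f j = h)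
    (W : T.Opens) (wa : W ≤ a ⁻¹ᵁ Vi) (wb : W ≤ b ⁻¹ᵁ Vj), sig D ea eb wa y = unitSec b (Dm D j) wb z

variable {D}

theorem Rel.symm {Vi : (X i).Opens} {Vj : (X j).Opens} {y : Γ(Dm D i, Vi)} {z : Γ(Dm D j, Vj)}
    (hr : Rel D y z) : Rel D z y := fun T a b h ea eb W wa wb => by
  rw [sig_apply, ← hr T b a h eb ea W wb wa, sig_comp, sig_self]

theorem Rel.res {Vi Vi' : (X i).Opens} {Vj Vj' : (X j).Opens} {y : Γ(Dm D i, Vi)} {z : Γ(Dm D j, Vj)}
    (hr : Rel D y z) (hi : Vi' ≤ Vi) (hj : Vj' ≤ Vj) :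
    Rel D (QC70.res (Dm D i) hi y) (QC70.res (Dm D j) hj z) := fun T a b h ea eb W wa wb => by
  have h0 := hr T a b h ea eb W (wa.trans (a.preimage_mono hi)) (wb.trans (b.preimage_mono hj))
  rw [sig_res D ea eb (wa.trans (a.preimage_mono hi)) wa hi le_rfl, h0,
    ← unitSec_res b (Dm D j) (wb.trans (b.preimage_mono hj)) wb hj le_rfl z]

theorem Rel.add {Vi : (X i).Opens} {Vj : (X j).Opens} {y y' : Γ(Dm D i, Vi)} {z z' : Γ(Dm D j, Vj)}
    (hr : Rel D y z) (hr' : Rel D y' z') : Rel D (y + y') (z + z') := fun T a b h ea eb W wa wb => by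
  rw [map_add, hr T a b h ea eb W wa wb, hr' T a b h ea eb W wa wb, unitSec_add]

theorem Rel.zero {Vi : (X i).Opens} {Vj : (X j).Opens} : Rel D (0 : Γ(Dm D i, Vi)) (0 : Γ(Dm D j, Vj)) :=
  fun T a b h ea eb W wa wb => by
    have e : unitSec b (Dm D j) wb (0 : Γ(Dm D j, Vj)) = 0 := by
      have := unitSec_add b (Dm D j) wb (0 : Γ(Dm D j, Vj)) 0
      rw [add_zero] at this
      exact left_eq_add.mp this
    rw [map_zero, e]

theorem Rel.smul {U : S.Opens} {Vi : (X i).Opens} {Vj : (X j).Opens} (hi : Vi ≤ f i ⁻¹ᵁ U) (hj : Vj ≤ f j ⁻¹ᵁ U)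
    {y : Γ(Dm D i, Vi)} {z : Γ(Dm D j, Vj)} (hr : Rel D y z) (r : Γ(S, U)) :
    Rel D ((f i).appLE U Vi hi r • y) ((f j).appLE U Vj hj r • z) := fun T a b h ea eb W wa wb => by
  rw [sig_smul, hr T a b h ea eb W wa wb, unitSec_smul]
  congr 1
  subst ea
  show ((f i).appLE U Vi hi ≫ a.appLE Vi W wa) r = ((f j).appLE U Vj hj ≫ b.appLE Vj W wb) r
  rw [Scheme.Hom.appLE_comp_appLE, Scheme.Hom.appLE_comp_appLE]
  simp only [eb]

section Sep

theorem unitSec_inj_of_tr {Y Z : Scheme.{u}} {X₀ : Scheme.{u}} {f₀ : Y ⟶ X₀} {g : Z ⟶ Y} {h₀ : Z ⟶ X₀}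
    (e : g ≫ f₀ = h₀) (G : X₀.Modules) {V : Y.Opens} {W : Z.Opens} (hW : W ≤ g ⁻¹ᵁ V)
    (y y' : Γ((Scheme.Modules.pullback f₀).obj G, V)) (he : QSheaf.tr e G hW y = QSheaf.tr e G hW y') :
    unitSec g ((Scheme.Modules.pullback f₀).obj G) hW y = unitSec g ((Scheme.Modules.pullback f₀).obj G) hW y' := by
  have h1 := congrArg (((pullbackCompIso f₀ g e).inv.app G).app W) he
  have h2 : ∀ w, ((pullbackCompIso f₀ g e).inv.app G).app W (((pullbackCompIso f₀ g e).hom.app G).app W w) = w :=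
    fun w => congr(Scheme.Modules.Hom.app $((pullbackCompIso f₀ g e).hom_inv_id_app G) W w)
  exact ((h2 _).symm.trans h1).trans (h2 _)

variable (D) {K : Type*} (κ : K → ι) (V : ∀ l, (X (κ l)).Opens)
  [∀ l, Flat (f (κ l))] (y : ∀ l, Γ(Dm D (κ l), V l))

/-- Two sections glued to all members of a covering family are glued to one another. -/
theorem rel_of_lifts {U : S.Opens} (hcov : ∀ x ∈ U, ∃ l, ∃ v ∈ V l, f (κ l) v = x)
    {Vi : (X i).Opens} {Vj : (X j).Opens} (hi : Vi ≤ f i ⁻¹ᵁ U)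
    {z : Γ(Dm D i, Vi)} {w : Γ(Dm D j, Vj)} (hz : ∀ l, Rel D (y l) z) (hw : ∀ l, Rel D (y l) w) :
    Rel D z w := by
  intro T a b h ea eb W wa wb
  let q : ∀ l, (V l : Scheme.{u}) ⟶ S := fun l => (V l).ι ≫ f (κ l)
  refine QSheaf.unitSec_ext (fun l => pullback.fst h (q l)) ((Scheme.Modules.pullback b).obj (Dm D j))
    (U := W) (fun x hx => ?_) _ _ fun l => ?_
  · have hxU : h x ∈ U := by
      rw [← ea]
      exact hi (wa hx)
    obtain ⟨l, v, hv, e⟩ := hcov _ hxU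
    obtain ⟨p, hp, -⟩ := Scheme.Pullback.exists_preimage_pullback (f := h) (g := q l) x ⟨v, hv⟩ e.symm
    exact ⟨l, p, hp⟩
  · let g := pullback.fst h (q l)
    let c : pullback h (q l) ⟶ X (κ l) := pullback.snd h (q l) ≫ (V l).ι
    have ec : c ≫ f (κ l) = g ≫ h := by simp only [c, g, Category.assoc, ← pullback.condition, q]
    have wc : g ⁻¹ᵁ W ≤ c ⁻¹ᵁ V l := fun p _ => ((pullback.snd h (q l)) p).2
    have ea' : (g ≫ a) ≫ f i = g ≫ h := by rw [Category.assoc, ea]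
    have eb' : (g ≫ b) ≫ f j = g ≫ h := by rw [Category.assoc, eb]
    have wga : g ⁻¹ᵁ W ≤ (g ≫ a) ⁻¹ᵁ Vi := fun p hp => wa hp
    have wgb : g ⁻¹ᵁ W ≤ (g ≫ b) ⁻¹ᵁ Vj := fun p hp => wb hp
    refine unitSec_inj_of_tr (rfl : g ≫ b = g ≫ b) (Dm D j) (le_refl _) _ _ ?_
    rw [sig_tr D g ea eb rfl rfl ea' eb' wa (le_refl _) wga, QSheaf.tr_unitSec rfl (Dm D j) wb (le_refl _) wgb,
      sig_apply, ← hz l _ c (g ≫ a) (g ≫ h) ec ea' _ wc wga, sig_comp,
      hw l _ c (g ≫ b) (g ≫ h) ec eb' _ wc wgb]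

/-- A section glued to all members of a covering family is determined. -/
theorem eq_of_rel {U : S.Opens} (hcov : ∀ x ∈ U, ∃ l, ∃ v ∈ V l, f (κ l) v = x)
    {Vi : (X i).Opens} (hi : Vi ≤ f i ⁻¹ᵁ U) {z z' : Γ(Dm D i, Vi)}
    (hz : ∀ l, Rel D (y l) z) (hz' : ∀ l, Rel D (y l) z') : z = z' := by
  let q : ∀ l, (V l : Scheme.{u}) ⟶ S := fun l => (V l).ι ≫ f (κ l)
  refine QSheaf.unitSec_ext (fun l => pullback.fst (f i) (q l)) (Dm D i) (U := Vi) (fun x hx => ?_) _ _ fun l => ?_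
  · obtain ⟨l, v, hv, e⟩ := hcov _ (hi hx)
    obtain ⟨p, hp, -⟩ := Scheme.Pullback.exists_preimage_pullback (f := f i) (g := q l) x ⟨v, hv⟩ e.symm
    exact ⟨l, p, hp⟩
  · let g := pullback.fst (f i) (q l)
    let c : pullback (f i) (q l) ⟶ X (κ l) := pullback.snd (f i) (q l) ≫ (V l).ι
    have ec : c ≫ f (κ l) = g ≫ f i := by simp only [c, g, Category.assoc, ← pullback.condition, q]
    have wc : g ⁻¹ᵁ Vi ≤ c ⁻¹ᵁ V l := fun p _ => ((pullback.snd (f i) (q l)) p).2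
    rw [← hz l _ c g (g ≫ f i) ec rfl _ wc (le_refl _), hz' l _ c g (g ≫ f i) ec rfl _ wc (le_refl _)]

end Sep

end Groth.Agent.Desc59.QEff
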