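import Groth.Agent.Desc59.QEff.Basic

/-!
Coordinates: sections of an inverse image over the spectrum of `B' ⊗[A] Γ(Y, V)` are `B' ⊗[A] Γ(M, V)`.
Stated for an abstract ring `C` with maps from `B'` and `Γ(Y, V)`, to keep terms small.
-/

set_option autoImplicit false
set_option backward.isDefEq.respectTransparency false
set_option backward.isDefEq.respectTransparency.types false
set_option linter.style.haveILetI false

noncomputable section

universe u

open CategoryTheory Limits AlgebraicGeometry Opposite TopologicalSpace TensorProduct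
open Groth.Agent.QC70 Groth.Agent.QCPull72 Groth.Agent.LimTop61

namespace Groth.Agent.Desc59.QEff.Chart

/-- a ring element as a global function on the spectrum -/
def scal (C : CommRingCat.{u}) : C →+* Γ(Spec C, ⊤) := (Scheme.ΓSpecIso C).inv.hom

theorem scal_surjective (C : CommRingCat.{u}) : Function.Surjective (scal C) := fun t =>
  ⟨(Scheme.ΓSpecIso C).hom t, ConcreteCategory.congr_hom (Scheme.ΓSpecIso C).hom_inv_id t⟩

theorem top_le_preimage {P Q : Scheme.{u}} (g : P ⟶ Q) : (⊤ : P.Opens) ≤ g ⁻¹ᵁ ⊤ := fun _ _ => trivial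

variable {A : Type u} [CommRing A] {Y : Scheme.{u}} {V : Y.Opens} {M : Y.Modules}
  [Algebra A Γ(Y, V)] [Module A Γ(M, V)] [IsScalarTower A Γ(Y, V) Γ(M, V)]
  {B' : Type u} [CommRing B'] [Algebra A B'] {C : CommRingCat.{u}}

/-- a chart: a map from the spectrum of `C` with coordinates from `B'` and from `Γ(Y, V)` -/
structure Ch (A : Type u) [CommRing A] (Y : Scheme.{u}) (V : Y.Opens) [Algebra A Γ(Y, V)]
    (B' : Type u) [CommRing B'] [Algebra A B'] (C : CommRingCat.{u}) where
  /-- the map -/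
  map : Spec C ⟶ Y
  /-- first coordinates -/
  l : B' →+* C
  /-- second coordinates -/
  r : Γ(Y, V) →+* C
  le : (⊤ : (Spec C).Opens) ≤ map ⁻¹ᵁ V
  appLE_eq : ∀ x, map.appLE V ⊤ le x = scal C (r x)
  lr : ∀ a : A, l (algebraMap A B' a) = r (algebraMap A Γ(Y, V) a)

variable (ch : Ch A Y V B' C) (M)

/-- coordinates -/
def Φ : B' ⊗[A] Γ(M, V) →+ Γ((Scheme.Modules.pullback ch.map).obj M, ⊤) :=
  TensorProduct.liftAddHom
    (AddMonoidHom.mk' (fun b => AddMonoidHom.mk' (fun n => scal C (ch.l b) • unitSec ch.map M ch.le n)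
        fun n n' => by rw [unitSec_add, smul_add])
      fun b b' => AddMonoidHom.ext fun n => by
        show scal C (ch.l (b + b')) • unitSec ch.map M ch.le n =
          scal C (ch.l b) • unitSec ch.map M ch.le n + scal C (ch.l b') • unitSec ch.map M ch.le n
        rw [map_add, map_add, add_smul])
    fun a b n => by
      show scal C (ch.l (a • b)) • unitSec ch.map M ch.le n = scal C (ch.l b) • unitSec ch.map M ch.le (a • n)
      rw [show a • n = algebraMap A Γ(Y, V) a • n from (algebraMap_smul _ a n).symm, unitSec_smul, smul_smul,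
        ch.appLE_eq, ← map_mul, Algebra.smul_def, map_mul, ch.lr, mul_comm]

theorem Φ_tmul (b : B') (n : Γ(M, V)) :
    Φ M ch (b ⊗ₜ[A] n) = scal C (ch.l b) • unitSec ch.map M ch.le n := rfl

theorem Φ_one (n : Γ(M, V)) : Φ M ch ((1 : B') ⊗ₜ[A] n) = unitSec ch.map M ch.le n := by
  rw [Φ_tmul, map_one, map_one, one_smul]

theorem Φ_smul (b : B') (z : B' ⊗[A] Γ(M, V)) : Φ M ch (b • z) = scal C (ch.l b) • Φ M ch z := by
  induction z with
  | zero => rw [smul_zero, map_zero, smul_zero]
  | add z z' hz hz' => rw [smul_add, map_add, map_add, hz, hz', smul_add]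
  | tmul b' n => rw [TensorProduct.smul_tmul', Φ_tmul, Φ_tmul, smul_smul, smul_eq_mul, map_mul, map_mul]

theorem tr_Φ {B'' : Type u} [CommRing B''] [Algebra A B''] {C' : CommRingCat.{u}} (ch' : Ch A Y V B'' C')
    (γ : C ⟶ C') (e : Spec.map γ ≫ ch.map = ch'.map) (χ : B' →ₐ[A] B'') (hχ : ∀ b, γ (ch.l b) = ch'.l (χ b))
    (z : B' ⊗[A] Γ(M, V)) :
    QSheaf.tr e M (top_le_preimage (Spec.map γ)) (Φ M ch z) = Φ M ch' (χ.toLinearMap.rTensor Γ(M, V) z) := by
  induction z with
  | zero => rw [map_zero, map_zero, map_zero, map_zero]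
  | add z z' hz hz' => rw [map_add, map_add, map_add, map_add, hz, hz']
  | tmul b n =>
    rw [Φ_tmul, LinearMap.rTensor_tmul, Φ_tmul, QSheaf.tr_smul, QSheaf.tr_unitSec e M ch.le _ ch'.le,
      AlgHom.toLinearMap_apply, ← hχ]
    congr 1
    refine (congrArg (fun φ => φ (scal C (ch.l b))) (Scheme.Hom.app_eq_appLE (Spec.map γ) (U := ⊤)).symm).trans ?_
    exact (ConcreteCategory.congr_hom (Scheme.ΓSpecIso_inv_naturality γ) (ch.l b)).symm

theorem Φ_bijective_of [M.IsQuasicoherent] (hV : IsAffineOpen V) (ρ : C → Γ(M, V) →+ B' ⊗[A] Γ(M, V))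
    (hadd : ∀ c c', ρ (c + c') = ρ c + ρ c') (hr : ∀ c x n, ρ (c * ch.r x) n = ρ c (x • n))
    (hl : ∀ b n, ρ (ch.l b) n = b ⊗ₜ[A] n)
    (hΦ : ∀ c n, Φ M ch (ρ c n) = scal C c • unitSec ch.map M ch.le n) :
    Function.Bijective (Φ M ch) := by
  let σ := (Scheme.ΓSpecIso C).hom
  have hσ : ∀ c, σ (scal C c) = c := fun c => ConcreteCategory.congr_hom (Scheme.ΓSpecIso C).inv_hom_id c
  letI := (ch.map.appLE V ⊤ ch.le).hom.toAlgebra
  obtain ⟨E, hE⟩ := exists_baseChange_equiv ch.map M hV (isAffineOpen_top _) ch.le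
  let Λ : Γ(Spec C, ⊤) ⊗[Γ(Y, V)] Γ(M, V) →+ B' ⊗[A] Γ(M, V) :=
    TensorProduct.liftAddHom
      (AddMonoidHom.mk' (fun t => ρ (σ t)) fun t t' => by rw [map_add]; exact hadd _ _)
      fun x t n => by
        show ρ (σ (ch.map.appLE V ⊤ ch.le x * t)) n = ρ (σ t) (x • n)
        rw [map_mul, ch.appLE_eq, hσ, mul_comm]
        exact hr (σ t) x n
  have hinv : ∀ z, Φ M ch (Λ (E z)) = z := by
    intro z
    obtain ⟨w, rfl⟩ := E.symm.surjective z
    rw [E.apply_symm_apply]
    induction w with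
    | zero => rw [map_zero, map_zero, map_zero]
    | add w w' hw hw' => rw [map_add, map_add, hw, hw', map_add]
    | tmul t n =>
      have hx : E.symm (t ⊗ₜ n) = t • unitSec ch.map M ch.le n := by
        apply E.injective
        rw [E.apply_symm_apply, map_smul, hE, TensorProduct.smul_tmul', smul_eq_mul, mul_one]
      rw [hx]
      obtain ⟨c, rfl⟩ := scal_surjective C t
      show Φ M ch (ρ (σ (scal C c)) n) = _
      rw [hσ]
      exact hΦ c n
  have hinv' : ∀ w, Λ (E (Φ M ch w)) = w := by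
    intro w
    induction w with
    | zero => rw [map_zero, map_zero, map_zero]
    | add w w' hw hw' => rw [map_add, map_add, map_add, hw, hw']
    | tmul b n =>
      rw [Φ_tmul, map_smul, hE, TensorProduct.smul_tmul', smul_eq_mul, mul_one]
      show ρ (σ (scal C (ch.l b))) n = _
      rw [hσ, hl]
  exact ⟨fun x y e => by rw [← hinv' x, ← hinv' y, e], fun z => ⟨_, hinv z⟩⟩

section Std

variable (A Y V B') (hV : IsAffineOpen V)

/-- the ring of the standard chart -/
abbrev C0 : CommRingCat.{u} := CommRingCat.of (B' ⊗[A] Γ(Y, V))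

/-- the second inclusion -/
abbrev incR : Γ(Y, V) ⟶ C0 A Y V B' :=
  CommRingCat.ofHom (Algebra.TensorProduct.includeRight (R := A) (A := B') (B := Γ(Y, V))).toRingHom

/-- the standard chart -/
def std : Ch A Y V B' (C0 A Y V B') where
  map := Spec.map (incR A Y V B') ≫ hV.fromSpec
  l := Algebra.TensorProduct.includeLeftRingHom
  r := (Algebra.TensorProduct.includeRight (R := A) (A := B') (B := Γ(Y, V))).toRingHom
  le := fun x _ => by
    show hV.fromSpec _ ∈ V
    exact hV.range_fromSpec.le ⟨_, rfl⟩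
  appLE_eq x := by
    rw [QSheaf.appLE_specMap_fromSpec hV (incR A Y V B')]
    rfl
  lr a := Algebra.TensorProduct.tmul_one_eq_one_tmul a

variable {A Y V B'} (B')

/-- multiplication of the second factor into the module -/
def ρ : B' ⊗[A] Γ(Y, V) →ₗ[A] Γ(M, V) →ₗ[A] B' ⊗[A] Γ(M, V) :=
  TensorProduct.lift
    { toFun := fun b =>
        { toFun := fun x => (TensorProduct.mk A B' Γ(M, V) b).comp ((Algebra.lsmul A A Γ(M, V)).toLinearMap x)
          map_add' := fun x x' => by ext n; simp [TensorProduct.tmul_add]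
          map_smul' := fun r x => by ext n; simp }
      map_add' := fun b b' => by ext x n; simp [TensorProduct.add_tmul]
      map_smul' := fun r b => by ext x n; simp [TensorProduct.smul_tmul'] }

theorem ρ_tmul (b : B') (x : Γ(Y, V)) (n : Γ(M, V)) : ρ M B' (b ⊗ₜ[A] x) n = b ⊗ₜ[A] (x • n) := rfl

theorem ρ_mul (c : B' ⊗[A] Γ(Y, V)) (x : Γ(Y, V)) (n : Γ(M, V)) :
    ρ M B' (c * ((1 : B') ⊗ₜ[A] x)) n = ρ M B' c (x • n) := by
  induction c with
  | zero => simp
  | add c c' hc hc' => rw [add_mul, map_add, map_add, LinearMap.add_apply, LinearMap.add_apply, hc, hc']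
  | tmul b y => rw [Algebra.TensorProduct.tmul_mul_tmul, mul_one, ρ_tmul, ρ_tmul, mul_smul]

theorem Φ_ρ_tmul (b : B') (x : Γ(Y, V)) (n : Γ(M, V)) :
    Φ M (std A Y V B' hV) (ρ M B' (b ⊗ₜ[A] x) n) =
      scal (C0 A Y V B') (b ⊗ₜ[A] x) • unitSec (std A Y V B' hV).map M (std A Y V B' hV).le n := by
  rw [ρ_tmul, Φ_tmul, unitSec_smul, smul_smul, (std A Y V B' hV).appLE_eq, ← map_mul]
  congr 2
  show (b ⊗ₜ[A] (1 : Γ(Y, V))) * ((1 : B') ⊗ₜ[A] x) = _
  rw [Algebra.TensorProduct.tmul_mul_tmul, mul_one, one_mul]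

theorem std_bijective [M.IsQuasicoherent] : Function.Bijective (Φ M (std A Y V B' hV)) := by
  refine Φ_bijective_of M (std A Y V B' hV) hV (fun c => (ρ M B' c).toAddMonoidHom)
    (fun c c' => AddMonoidHom.ext fun n => by
      show ρ M B' (c + c') n = _
      rw [map_add]
      rfl)
    (fun c x n => ρ_mul M B' c x n) (fun b n => ?_) fun c n => ?_
  · show ρ M B' (b ⊗ₜ[A] (1 : Γ(Y, V))) n = _
    rw [ρ_tmul, one_smul]
  · show Φ M (std A Y V B' hV) (ρ M B' c n) = _
    induction c using TensorProduct.induction_on with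
    | zero =>
      rw [map_zero, LinearMap.zero_apply, map_zero]
      exact ((congrArg (· • _) (map_zero (scal (C0 A Y V B')))).trans (zero_smul _ _)).symm
    | tmul b x => exact Φ_ρ_tmul M B' hV b x n
    | add c c' hc hc' =>
      rw [map_add, LinearMap.add_apply, map_add, hc, hc', ← add_smul, ← map_add]

end Std

end Groth.Agent.Desc59.QEff.Chart
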