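import Groth.Agent.Desc59.QEff.Chart

/-!
A descent datum in coordinates on affine charts: `ψ`, its unit and cocycle identities, and the
translation of `Rel`.
-/

set_option autoImplicit false
set_option backward.isDefEq.respectTransparency false
set_option backward.isDefEq.respectTransparency.types false
set_option linter.style.haveILetI false
set_option linter.unusedSectionVars false

noncomputable section

universe u

open CategoryTheory Limits AlgebraicGeometry Opposite TopologicalSpace TensorProduct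
open Groth.Agent.QC70 Groth.Agent.QCPull72 Groth.Agent.LimTop61

namespace Groth.Agent.Desc59.QEff

open Chart

section Point

variable {Y : Scheme.{u}} {V : Y.Opens} (hV : IsAffineOpen V) {C C' : CommRingCat.{u}}

/-- the point of an affine open given by a ring map -/
def pt (φ : Γ(Y, V) ⟶ C) : Spec C ⟶ Y := Spec.map φ ≫ hV.fromSpec

theorem pt_le (φ : Γ(Y, V) ⟶ C) : (⊤ : (Spec C).Opens) ≤ pt hV φ ⁻¹ᵁ V := fun x _ => by
  show hV.fromSpec _ ∈ V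
  exact hV.range_fromSpec.le ⟨_, rfl⟩

theorem pt_appLE (φ : Γ(Y, V) ⟶ C) (x : Γ(Y, V)) : (pt hV φ).appLE V ⊤ (pt_le hV φ) x = scal C (φ x) := by
  simp only [pt]
  rw [QSheaf.appLE_specMap_fromSpec hV φ]
  rfl

theorem pt_comp (φ : Γ(Y, V) ⟶ C) (φ' : Γ(Y, V) ⟶ C') (γ : C ⟶ C') (h : φ ≫ γ = φ') :
    Spec.map γ ≫ pt hV φ = pt hV φ' := by
  subst h
  rw [pt, pt, Spec.map_comp, Category.assoc]

theorem pt_base {Y₂ P : Scheme.{u}} {V₂ : Y₂.Opens} (hV₂ : IsAffineOpen V₂) {U : P.Opens} (hU : IsAffineOpen U)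
    (g : Y ⟶ P) (g₂ : Y₂ ⟶ P) (e : V ≤ g ⁻¹ᵁ U) (e₂ : V₂ ≤ g₂ ⁻¹ᵁ U) (φ : Γ(Y, V) ⟶ C) (φ₂ : Γ(Y₂, V₂) ⟶ C)
    (h : g.appLE U V e ≫ φ = g₂.appLE U V₂ e₂ ≫ φ₂) : pt hV φ ≫ g = pt hV₂ φ₂ ≫ g₂ := by
  rw [pt, pt, Category.assoc, Category.assoc, ← hU.SpecMap_appLE_fromSpec g hV e,
    ← hU.SpecMap_appLE_fromSpec g₂ hV₂ e₂, ← Spec.map_comp_assoc, ← Spec.map_comp_assoc, h]

/-- sections inject at the identity point -/
theorem unitSec_pt_id_injective (M : Y.Modules) (n n' : Γ(M, V))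
    (h : unitSec (pt hV (𝟙 Γ(Y, V))) M (pt_le hV _) n = unitSec (pt hV (𝟙 Γ(Y, V))) M (pt_le hV _) n') : n = n' := by
  let g := pt hV (𝟙 Γ(Y, V))
  have : Flat g := by
    simp only [g, pt, Spec.map_id, Category.id_comp]
    infer_instance
  refine QSheaf.unitSec_ext (fun _ : PUnit.{1} => g) M (U := V) (fun x hx => ?_) n n' fun _ => ?_
  · rw [← SetLike.mem_coe, ← hV.range_fromSpec] at hx
    obtain ⟨y, hy⟩ := hx
    refine ⟨⟨⟩, y, ?_⟩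
    simp only [g, pt, Spec.map_id, Category.id_comp]
    exact hy
  · have e1 := unitSec_res g M (pt_le hV _) (le_refl (g ⁻¹ᵁ V)) (le_refl V) le_top n
    have e2 := unitSec_res g M (pt_le hV _) (le_refl (g ⁻¹ᵁ V)) (le_refl V) le_top n'
    rw [res_self] at e1 e2
    rw [e1, e2, h]

end Point

section Core

variable {ι : Type u} {S : Scheme.{u}} {X : ι → Scheme.{u}} {f : ∀ i, X i ⟶ S}
  {D : Desc.modPF.{u}.DescentData f} {i j k : ι} {Vi : (X i).Opens} {Vj : (X j).Opens} {Vk : (X k).Opens}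
  {A : Type u} [CommRing A] [Algebra A Γ(X i, Vi)] [Algebra A Γ(X j, Vj)] [Algebra A Γ(X k, Vk)]
  [Module A Γ(Dm D i, Vi)] [Module A Γ(Dm D j, Vj)] [Module A Γ(Dm D k, Vk)]
  [IsScalarTower A Γ(X i, Vi) Γ(Dm D i, Vi)] [IsScalarTower A Γ(X j, Vj) Γ(Dm D j, Vj)]
  [IsScalarTower A Γ(X k, Vk) Γ(Dm D k, Vk)]

theorem unit_core {C C' : CommRingCat.{u}} (ch : Ch A (X i) Vi Γ(X i, Vi) C) {a : Spec C ⟶ X i} {h : Spec C ⟶ S}
    (ea : a ≫ f i = h) (eb : ch.map ≫ f i = h) (wa : (⊤ : (Spec C).Opens) ≤ a ⁻¹ᵁ Vi) (γ : C ⟶ C')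
    {a' : Spec C' ⟶ X i} {h' : Spec C' ⟶ S} (ea' : a' ≫ f i = h') (ega : Spec.map γ ≫ a = a')
    (egb : Spec.map γ ≫ ch.map = a') (wa' : (⊤ : (Spec C').Opens) ≤ a' ⁻¹ᵁ Vi)
    (hl : ∀ b, a'.appLE Vi ⊤ wa' b = scal C' (γ (ch.l b)))
    (n : Γ(Dm D i, Vi)) (z : Γ(X i, Vi) ⊗[A] Γ(Dm D i, Vi)) (hz : Φ (Dm D i) ch z = sig D ea eb wa n) :
    unitSec a' (Dm D i) wa' (TensorProduct.lift (Algebra.lsmul A A Γ(Dm D i, Vi)).toLinearMap z) =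
      unitSec a' (Dm D i) wa' n := by
  have h1 : ∀ w, QSheaf.tr egb (Dm D i) (top_le_preimage (Spec.map γ)) (Φ (Dm D i) ch w) =
      unitSec a' (Dm D i) wa' (TensorProduct.lift (Algebra.lsmul A A Γ(Dm D i, Vi)).toLinearMap w) := by
    intro w
    induction w with
    | zero =>
      have e : unitSec a' (Dm D i) wa' (0 : Γ(Dm D i, Vi)) = 0 := by
        have := unitSec_add a' (Dm D i) wa' (0 : Γ(Dm D i, Vi)) 0
        rw [add_zero] at this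
        exact left_eq_add.mp this
      rw [map_zero, map_zero, map_zero, e]
    | add w w' hw hw' => rw [map_add, map_add, map_add, hw, hw', unitSec_add]
    | tmul b x =>
      rw [Φ_tmul, QSheaf.tr_smul, QSheaf.tr_unitSec egb (Dm D i) ch.le _ wa', TensorProduct.lift.tmul]
      show _ = unitSec a' (Dm D i) wa' (b • x)
      rw [unitSec_smul, hl]
      congr 1
      refine (congrArg (fun φ => φ (scal C (ch.l b))) (Scheme.Hom.app_eq_appLE (Spec.map γ) (U := ⊤)).symm).trans ?_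
      exact (ConcreteCategory.congr_hom (Scheme.ΓSpecIso_inv_naturality γ) (ch.l b)).symm
  rw [← h1, hz, sig_tr D (Spec.map γ) ea eb ega egb ea' ea' wa (top_le_preimage _) wa', sig_self]

theorem rel_of_chart {B' : Type u} [CommRing B'] [Algebra A B'] {C : CommRingCat.{u}}
    (ch : Ch A (X j) Vj B' C) {a₀ : Spec C ⟶ X i} {h₀ : Spec C ⟶ S} (ea₀ : a₀ ≫ f i = h₀)
    (eb₀ : ch.map ≫ f j = h₀) (w₀ : (⊤ : (Spec C).Opens) ≤ a₀ ⁻¹ᵁ Vi) (n : Γ(Dm D i, Vi)) (n' : Γ(Dm D j, Vj))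
    (h : sig D ea₀ eb₀ w₀ n = unitSec ch.map (Dm D j) ch.le n')
    (hfac : ∀ (T : Scheme.{u}) (a : T ⟶ X i) (b : T ⟶ X j), a ≫ f i = b ≫ f j → ∀ (W' : T.Opens)
      (hW' : IsAffineOpen W'), W' ≤ a ⁻¹ᵁ Vi → W' ≤ b ⁻¹ᵁ Vj → ∃ γ : C ⟶ Γ(T, W'),
        Spec.map γ ≫ a₀ = hW'.fromSpec ≫ a ∧ Spec.map γ ≫ ch.map = hW'.fromSpec ≫ b) :
    Rel D n n' := by
  intro T a b t ea eb W wa wb
  refine QSheaf.unitSec_ext (fun W' : {W' : T.Opens // IsAffineOpen W' ∧ W' ≤ W} => W'.2.1.fromSpec)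
    ((Scheme.Modules.pullback b).obj (Dm D j)) (U := W) (fun x hx => ?_) _ _ fun W' => ?_
  · obtain ⟨W', hW', hxW', hle⟩ := exists_isAffineOpen_mem_and_subset (U := W) hx
    rw [← SetLike.mem_coe, ← hW'.range_fromSpec] at hxW'
    obtain ⟨y, hy⟩ := hxW'
    exact ⟨⟨W', hW', hle⟩, y, hy⟩
  · obtain ⟨W', hW', hle⟩ := W'
    have hg : (⊤ : (Spec Γ(T, W')).Opens) ≤ hW'.fromSpec ⁻¹ᵁ W := fun x _ => by
      show hW'.fromSpec x ∈ W
      exact hle (hW'.range_fromSpec.le ⟨x, rfl⟩)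
    obtain ⟨γ, eγa, eγb⟩ := hfac T a b (by rw [ea, eb]) W' hW' (hle.trans wa) (hle.trans wb)
    have ea' : (hW'.fromSpec ≫ a) ≫ f i = hW'.fromSpec ≫ t := by rw [Category.assoc, ea]
    have eb' : (hW'.fromSpec ≫ b) ≫ f j = hW'.fromSpec ≫ t := by rw [Category.assoc, eb]
    have wa' : (⊤ : (Spec Γ(T, W')).Opens) ≤ (hW'.fromSpec ≫ a) ⁻¹ᵁ Vi := fun x hx => wa (hg hx)
    have wb' : (⊤ : (Spec Γ(T, W')).Opens) ≤ (hW'.fromSpec ≫ b) ⁻¹ᵁ Vj := fun x hx => wb (hg hx)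
    have key : unitSec hW'.fromSpec ((Scheme.Modules.pullback b).obj (Dm D j)) hg (sig D ea eb wa n) =
        unitSec hW'.fromSpec ((Scheme.Modules.pullback b).obj (Dm D j)) hg (unitSec b (Dm D j) wb n') := by
      refine unitSec_inj_of_tr (rfl : hW'.fromSpec ≫ b = hW'.fromSpec ≫ b) (Dm D j) hg _ _ ?_
      rw [sig_tr D hW'.fromSpec ea eb rfl rfl ea' eb' wa hg wa', QSheaf.tr_unitSec rfl (Dm D j) wb hg wb',
        ← sig_tr D (Spec.map γ) ea₀ eb₀ eγa eγb ea' eb' w₀ (top_le_preimage _) wa', h,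
        QSheaf.tr_unitSec eγb (Dm D j) _ _ wb']
    have e1 : ∀ y, unitSec hW'.fromSpec ((Scheme.Modules.pullback b).obj (Dm D j)) (le_refl (hW'.fromSpec ⁻¹ᵁ W)) y =
        res _ le_top (unitSec hW'.fromSpec ((Scheme.Modules.pullback b).obj (Dm D j)) hg y) := fun y => by
      rw [← unitSec_res hW'.fromSpec _ hg (le_refl (hW'.fromSpec ⁻¹ᵁ W)) (le_refl W) le_top y, res_self]
    rw [e1, e1, key]

theorem cocycle_core {P Q : Type u} [CommRing P] [Algebra A P] [CommRing Q] [Algebra A Q]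
    {Cpq Cqr Cpr C3 : CommRingCat.{u}} (chpq : Ch A (X j) Vj P Cpq) (chqr : Ch A (X k) Vk Q Cqr)
    (chpr : Ch A (X k) Vk P Cpr) (ch3 : Ch A (X k) Vk (P ⊗[A] Q) C3)
    {apq : Spec Cpq ⟶ X i} {hpq : Spec Cpq ⟶ S} (eapq : apq ≫ f i = hpq) (ebpq : chpq.map ≫ f j = hpq)
    (wpq : (⊤ : (Spec Cpq).Opens) ≤ apq ⁻¹ᵁ Vi)
    {aqr : Spec Cqr ⟶ X j} {hqr : Spec Cqr ⟶ S} (eaqr : aqr ≫ f j = hqr) (ebqr : chqr.map ≫ f k = hqr)
    (wqr : (⊤ : (Spec Cqr).Opens) ≤ aqr ⁻¹ᵁ Vj)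
    {apr : Spec Cpr ⟶ X i} {hpr : Spec Cpr ⟶ S} (eapr : apr ≫ f i = hpr) (ebpr : chpr.map ≫ f k = hpr)
    (wpr : (⊤ : (Spec Cpr).Opens) ≤ apr ⁻¹ᵁ Vi)
    {a3 : Spec C3 ⟶ X i} {b3 : Spec C3 ⟶ X j} {h3 : Spec C3 ⟶ S} (ea3 : a3 ≫ f i = h3) (eb3 : b3 ≫ f j = h3)
    (ec3 : ch3.map ≫ f k = h3) (wa3 : (⊤ : (Spec C3).Opens) ≤ a3 ⁻¹ᵁ Vi) (wb3 : (⊤ : (Spec C3).Opens) ≤ b3 ⁻¹ᵁ Vj)
    (γpq : Cpq ⟶ C3) (γqr : Cqr ⟶ C3) (γpr : Cpr ⟶ C3)
    (e1 : Spec.map γpq ≫ apq = a3) (e1' : Spec.map γpq ≫ chpq.map = b3)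
    (e2 : Spec.map γqr ≫ aqr = b3) (e2' : Spec.map γqr ≫ chqr.map = ch3.map)
    (e3 : Spec.map γpr ≫ apr = a3) (e3' : Spec.map γpr ≫ chpr.map = ch3.map)
    (hl1 : ∀ b, γpq (chpq.l b) = ch3.l (b ⊗ₜ[A] (1 : Q)))
    (hl2 : ∀ b, γqr (chqr.l b) = ch3.l ((1 : P) ⊗ₜ[A] b))
    (hl3 : ∀ b, γpr (chpr.l b) = ch3.l (b ⊗ₜ[A] (1 : Q)))
    (hinj : Function.Injective (Φ (Dm D k) ch3))
    (ψpq : Γ(Dm D i, Vi) →ₗ[A] P ⊗[A] Γ(Dm D j, Vj)) (ψqr : Γ(Dm D j, Vj) →ₗ[A] Q ⊗[A] Γ(Dm D k, Vk))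
    (ψpr : Γ(Dm D i, Vi) →ₗ[A] P ⊗[A] Γ(Dm D k, Vk))
    (hψpq : ∀ n, Φ (Dm D j) chpq (ψpq n) = sig D eapq ebpq wpq n)
    (hψqr : ∀ n, Φ (Dm D k) chqr (ψqr n) = sig D eaqr ebqr wqr n)
    (hψpr : ∀ n, Φ (Dm D k) chpr (ψpr n) = sig D eapr ebpr wpr n) (n : Γ(Dm D i, Vi)) :
    ψqr.lTensor P (ψpq n) = (TensorProduct.mk A Q Γ(Dm D k, Vk) 1).lTensor P (ψpr n) := by
  let α := (TensorProduct.assoc A P Q Γ(Dm D k, Vk)).symm
  let iQ : Q →ₐ[A] P ⊗[A] Q := Algebra.TensorProduct.includeRight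
  let iP : P →ₐ[A] P ⊗[A] Q := Algebra.TensorProduct.includeLeft
  have hα : ∀ (b : P) (w : Q ⊗[A] Γ(Dm D k, Vk)),
      α (b ⊗ₜ[A] w) = (b ⊗ₜ[A] (1 : Q)) • iQ.toLinearMap.rTensor Γ(Dm D k, Vk) w := by
    intro b w
    induction w with
    | zero => simp
    | add w w' hw hw' => simp only [TensorProduct.tmul_add, map_add, smul_add, hw, hw']
    | tmul q x =>
      simp only [α, iQ, TensorProduct.assoc_symm_tmul, LinearMap.rTensor_tmul, AlgHom.toLinearMap_apply,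
        Algebra.TensorProduct.includeRight_apply, TensorProduct.smul_tmul', smul_eq_mul,
        Algebra.TensorProduct.tmul_mul_tmul, mul_one, one_mul]
  have hL : ∀ z : P ⊗[A] Γ(Dm D j, Vj), Φ (Dm D k) ch3 (α (ψqr.lTensor P z)) =
      (Dh D eb3 ec3).app ⊤ (QSheaf.tr e1' (Dm D j) (top_le_preimage (Spec.map γpq)) (Φ (Dm D j) chpq z)) := by
    intro z
    induction z with
    | zero => rw [map_zero, map_zero, map_zero, map_zero, map_zero, map_zero]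
    | add z z' hz hz' => rw [map_add, map_add, map_add, map_add, map_add, map_add, hz, hz']
    | tmul b x =>
      rw [LinearMap.lTensor_tmul, hα, Φ_smul, ← tr_Φ (Dm D k) chqr ch3 γqr e2' iQ (fun q => hl2 q), hψqr,
        sig_tr D (Spec.map γqr) eaqr ebqr e2 e2' eb3 ec3 wqr (top_le_preimage _) wb3, Φ_tmul, QSheaf.tr_smul,
        QSheaf.tr_unitSec e1' (Dm D j) chpq.le _ wb3, Scheme.Modules.Hom.app_smul, sig_apply, ← hl1]
      congr 1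
      refine ((congrArg (fun φ => φ (scal Cpq (chpq.l b))) (Scheme.Hom.app_eq_appLE (Spec.map γpq) (U := ⊤)).symm).trans ?_).symm
      exact (ConcreteCategory.congr_hom (Scheme.ΓSpecIso_inv_naturality γpq) (chpq.l b)).symm
  have hR : ∀ z : P ⊗[A] Γ(Dm D k, Vk), α ((TensorProduct.mk A Q Γ(Dm D k, Vk) 1).lTensor P z) =
      iP.toLinearMap.rTensor Γ(Dm D k, Vk) z := by
    intro z
    induction z with
    | zero => simp
    | add z z' hz hz' => simp only [map_add, hz, hz']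
    | tmul b x => rfl
  refine α.injective (hinj ?_)
  rw [hL, hψpq, sig_tr D (Spec.map γpq) eapq ebpq e1 e1' ea3 eb3 wpq (top_le_preimage _) wa3, sig_comp, hR,
    ← tr_Φ (Dm D k) chpr ch3 γpr e3' iP (fun b => hl3 b), hψpr,
    sig_tr D (Spec.map γpr) eapr ebpr e3 e3' ea3 ec3 wpr (top_le_preimage _) wa3]

end Core

end Groth.Agent.Desc59.QEff
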