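import Groth.Agent.Desc59.QEff.Pieces
import Groth.Agent.Desc59.SecAlg

/-!
Compatible families on finitely many affine pieces extend uniquely to the whole covering.
-/

set_option autoImplicit false
set_option backward.isDefEq.respectTransparency false
set_option backward.isDefEq.respectTransparency.types false
set_option linter.style.haveILetI false
set_option linter.unusedSectionVars false

noncomputable section

universe u

open CategoryTheory Limits AlgebraicGeometry Opposite TopologicalSpace TensorProduct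
open Groth.Agent.QC70 Groth.Agent.QCPull72 Groth.Agent.LimTop61

namespace Groth.Agent.Desc59.QEff

variable {ι : Type u} {S : Scheme.{u}} {X : ι → Scheme.{u}} {f : ∀ i, X i ⟶ S}
  {D : Desc.modPF.{u}.DescentData f}

theorem unitSec_zero {Y Z : Scheme.{u}} (g : Z ⟶ Y) (M : Y.Modules) {V : Y.Opens} {W : Z.Opens} (h : W ≤ g ⁻¹ᵁ V) :
    unitSec g M h (0 : Γ(M, V)) = 0 := by
  have := unitSec_add g M h (0 : Γ(M, V)) 0
  rw [add_zero] at this
  exact left_eq_add.mp this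

theorem Rel.of_local_left {i j : ι} {Vi : (X i).Opens} {Vj : (X j).Opens} {y : Γ(Dm D i, Vi)} {z : Γ(Dm D j, Vj)}
    (h : ∀ x ∈ Vi, ∃ (V' : (X i).Opens) (hV' : V' ≤ Vi), x ∈ V' ∧ Rel D (QC70.res (Dm D i) hV' y) z) :
    Rel D y z := by
  intro T a b t ea eb W wa wb
  refine section_ext _ _ _ fun x hx => ?_
  obtain ⟨V', hV', hxV, hr⟩ := h (a x) (wa hx)
  refine ⟨W ⊓ a ⁻¹ᵁ V', inf_le_left, ⟨hx, hxV⟩, ?_⟩
  rw [← sig_res D ea eb wa inf_le_right hV' inf_le_left,
    hr T a b t ea eb (W ⊓ a ⁻¹ᵁ V') inf_le_right (inf_le_left.trans wb),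
    ← unitSec_res b (Dm D j) wb (inf_le_left.trans wb) (le_refl Vj) inf_le_left, res_self]

theorem Rel.of_local_right {i j : ι} {Vi : (X i).Opens} {Vj : (X j).Opens} {y : Γ(Dm D i, Vi)} {z : Γ(Dm D j, Vj)}
    (h : ∀ x ∈ Vj, ∃ (V' : (X j).Opens) (hV' : V' ≤ Vj), x ∈ V' ∧ Rel D y (QC70.res (Dm D j) hV' z)) :
    Rel D y z :=
  (Rel.of_local_left fun x hx => by
    obtain ⟨V', hV', hxV, hr⟩ := h x hx
    exact ⟨V', hV', hxV, hr.symm⟩).symm

variable {U : S.Opens} {K : Type} [Fintype K] (P : K → Pc f U) (hU : IsAffineOpen U)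
  (hcov : ∀ x ∈ U, ∃ k, ∃ v ∈ (P k).V, f (P k).idx v = x)
  [∀ i, Flat (f i)] [∀ i, (Dm D i).IsQuasicoherent]

instance flatPc (p : Pc f U) [Fact (IsAffineOpen U)] : Module.Flat Γ(S, U) Γ(X p.idx, p.V) :=
  HasRingHomProperty.appLE @Flat (f p.idx) inferInstance ⟨U, (Fact.out : IsAffineOpen U)⟩ ⟨p.V, p.hV⟩ p.le

include hU hcov in
theorem pc_surj (x : PrimeSpectrum Γ(S, U)) :
    ∃ k q, PrimeSpectrum.comap (algebraMap Γ(S, U) Γ(X (P k).idx, (P k).V)) q = x := by
  have hmem : hU.fromSpec x ∈ U := hU.range_fromSpec.le ⟨x, rfl⟩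
  obtain ⟨k, z, hz, ez⟩ := hcov _ hmem
  refine ⟨k, (P k).hV.primeIdealOf ⟨z, hz⟩, ?_⟩
  apply hU.fromSpec.isOpenEmbedding.injective
  show hU.fromSpec ((Spec.map ((f (P k).idx).appLE U (P k).V (P k).le)) ((P k).hV.primeIdealOf ⟨z, hz⟩)) = hU.fromSpec x
  rw [← Scheme.Hom.comp_apply, hU.SpecMap_appLE_fromSpec (f (P k).idx) (P k).hV (P k).le, Scheme.Hom.comp_apply,
    (P k).hV.fromSpec_primeIdealOf]
  exact ez

variable (n : ∀ k, Γ(Dm D (P k).idx, (P k).V)) (hn : ∀ k l, Rel D (n k) (n l))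

include hU hcov hn in
theorem exists_on_piece (q : Pc f U) : ∃ z : Γ(Dm D q.idx, q.V), ∀ k, Rel D (n k) z := by
  haveI : Fact (IsAffineOpen U) := ⟨hU⟩
  obtain ⟨z, hz⟩ := SecAlg.exists_descend (B := fun k => (Γ(X (P k).idx, (P k).V) : Type u))
    (pc_surj P hU hcov) Γ(Dm D q.idx, q.V) (fun k => ψ (P k) q D hU (n k)) fun k l => by
      rw [← ψ_cocycle (P k) (P l) q D hU (n k), ψ_of_rel (P k) (P l) D hU (hn k l), LinearMap.lTensor_tmul]
  exact ⟨z, fun k => rel_of_ψ (P k) q D hU (hz k)⟩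

include hU hcov hn in
theorem exists_ext : ∃ m : ∀ i, Γ(Dm D i, f i ⁻¹ᵁ U),
    (∀ i j, Rel D (m i) (m j)) ∧ (∀ k i, Rel D (n k) (m i)) ∧
      ∀ k, res (Dm D (P k).idx) (P k).le (m (P k).idx) = n k := by
  have h1 : ∀ i, ∃ m : Γ(Dm D i, f i ⁻¹ᵁ U), ∀ k, Rel D (n k) m := by
    intro i
    let J := {V : (X i).Opens // IsAffineOpen V ∧ V ≤ f i ⁻¹ᵁ U}
    choose z hz using fun V : J => exists_on_piece P hU hcov n hn ⟨i, V.1, V.2.1, V.2.2⟩
    obtain ⟨m, hm, -⟩ := TopCat.Sheaf.existsUnique_gluing'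
      (C := AddCommGrpCat.{u}) (⟨(Dm D i).presheaf, (Dm D i).isSheaf⟩ : TopCat.Sheaf AddCommGrpCat.{u} (X i))
      (fun V : J => V.1) (f i ⁻¹ᵁ U) (fun V => homOfLE V.2.2)
      (fun x hx => by
        obtain ⟨V, hVa, hxV, hle⟩ := exists_isAffineOpen_mem_and_subset (U := f i ⁻¹ᵁ U) hx
        exact Opens.mem_iSup.mpr ⟨⟨V, hVa, hle⟩, hxV⟩)
      z (fun V V' => eq_of_rel D (fun k => (P k).idx) (fun k => (P k).V) n hcov
        (inf_le_left.trans V.2.2) (fun k => by
          have := (hz V k).res (le_refl _) (inf_le_left : V.1 ⊓ V'.1 ≤ V.1)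
          rw [res_self] at this
          exact this)
        (fun k => by
          have := (hz V' k).res (le_refl _) (inf_le_right : V.1 ⊓ V'.1 ≤ V'.1)
          rw [res_self] at this
          exact this))
    refine ⟨m, fun k => Rel.of_local_right fun x hx => ?_⟩
    obtain ⟨V, hVa, hxV, hle⟩ := exists_isAffineOpen_mem_and_subset (U := f i ⁻¹ᵁ U) hx
    refine ⟨V, hle, hxV, ?_⟩
    have e : QC70.res (Dm D i) hle m = z ⟨V, hVa, hle⟩ := hm ⟨V, hVa, hle⟩
    rw [e]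
    exact hz ⟨V, hVa, hle⟩ k
  choose m hm using h1
  refine ⟨m, fun i j => rel_of_lifts D (fun k => (P k).idx) (fun k => (P k).V) n hcov le_rfl
    (fun k => hm i k) (fun k => hm j k), fun k i => hm i k, fun k => ?_⟩
  refine eq_of_rel D (fun k => (P k).idx) (fun k => (P k).V) n hcov (P k).le (fun l => ?_) (fun l => hn l k)
  have := (hm (P k).idx l).res (le_refl _) (P k).le
  rw [res_self] at this
  exact this

omit [Fintype K] in
include hcov in
theorem ext_unique {m m' : ∀ i, Γ(Dm D i, f i ⁻¹ᵁ U)} (hm : ∀ i j, Rel D (m i) (m j))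
    (hm' : ∀ i j, Rel D (m' i) (m' j))
    (h : ∀ k, res (Dm D (P k).idx) (P k).le (m (P k).idx) = res (Dm D (P k).idx) (P k).le (m' (P k).idx)) :
    m = m' := by
  funext i
  refine eq_of_rel D (fun k => (P k).idx) (fun k => (P k).V)
    (fun k => res (Dm D (P k).idx) (P k).le (m (P k).idx)) hcov le_rfl (fun k => ?_) (fun k => ?_)
  · have := (hm (P k).idx i).res (P k).le (le_refl _)
    rw [res_self] at this
    exact this
  · rw [h k]
    have := (hm' (P k).idx i).res (P k).le (le_refl _)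
    rw [res_self] at this
    exact this

end Groth.Agent.Desc59.QEff
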