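import Groth.Agent.Desc59.QEff.Ext
import Groth.Agent.SubMod72.ToModules
import Mathlib.CategoryTheory.Limits.Shapes.ConcreteCategory

/-!
The module of compatible families of a descent datum.
-/

set_option autoImplicit false
set_option backward.isDefEq.respectTransparency false
set_option backward.isDefEq.respectTransparency.types false
set_option linter.style.haveILetI false
set_option linter.unusedSectionVars false

noncomputable section

universe u

open CategoryTheory Limits AlgebraicGeometry Opposite TopologicalSpace TensorProduct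
open Groth.Agent.QC70 Groth.Agent.QCPull72 Groth.Agent.LimTop61

namespace Groth.Agent.Desc59.QEff

variable {ι : Type u} {S : Scheme.{u}} {X : ι → Scheme.{u}} {f : ∀ i, X i ⟶ S}

/-- the direct images -/
abbrev Pf (D : Desc.modPF.{u}.DescentData f) (i : ι) : S.Modules :=
  (Scheme.Modules.pushforward (f i)).obj (Dm D i)

/-- their product -/
abbrev FPi (D : Desc.modPF.{u}.DescentData f) : S.Modules := ∏ᶜ Pf D

variable (D : Desc.modPF.{u}.DescentData f)

/-- the components of a section -/
def comp (U : S.Opens) (i : ι) : Γ(FPi D, U) →ₗ[Γ(S, U)] Γ(Pf D i, U) :=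
  appLinear (Pi.π (Pf D) i) U

theorem comp_res {U V : S.Opens} (h : V ≤ U) (i : ι) (x : Γ(FPi D, U)) :
    comp D V i (res (FPi D) h x) = res (Dm D i) ((f i).preimage_mono h) (show Γ(Dm D i, f i ⁻¹ᵁ U) from comp D U i x) :=
  app_res (Pi.π (Pf D) i) h x

theorem comp_bijective (U : S.Opens) :
    Function.Bijective (fun (x : Γ(FPi D, U)) (i : ι) => comp D U i x) := by
  haveI : PreservesLimitsOfShape (Discrete ι) (sectionsFunctor S U) := by
    haveI : PreservesLimitsOfShape (Discrete ι) (Scheme.Modules.toPresheaf S) := inferInstance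
    haveI : PreservesLimitsOfShape (Discrete ι) ((evaluation (Opens S)ᵒᵖ AddCommGrpCat.{u}).obj (op U)) :=
      evaluation_preservesLimitsOfShape _
    exact comp_preservesLimitsOfShape (Scheme.Modules.toPresheaf S) _
  let e := (PreservesProduct.iso (sectionsFunctor S U) (Pf D)).addCommGroupIsoToAddEquiv
  let e' := Concrete.productEquiv (fun i => (sectionsFunctor S U).obj (Pf D i))
  have : (fun (x : Γ(FPi D, U)) (i : ι) => comp D U i x) = e' ∘ e := by
    funext x i
    refine Eq.trans ?_ (Concrete.productEquiv_apply_apply (fun i => (sectionsFunctor S U).obj (Pf D i)) _ i).symm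
    exact (ConcreteCategory.congr_hom (piComparison_comp_π (sectionsFunctor S U) (Pf D) i) x).symm
  rw [this]
  exact e'.bijective.comp e.bijective

/-- a section is a compatible family -/
def Cmp {U : S.Opens} (m : ∀ i, Γ(Dm D i, f i ⁻¹ᵁ U)) : Prop := ∀ i j, Rel D (m i) (m j)

/-- the components, as sections of the modules of the descent datum -/
def fam {U : S.Opens} (x : Γ(FPi D, U)) (i : ι) : Γ(Dm D i, f i ⁻¹ᵁ U) := comp D U i x

theorem fam_add {U : S.Opens} (x y : Γ(FPi D, U)) (i : ι) : fam D (x + y) i = fam D x i + fam D y i :=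
  map_add (comp D U i) x y

theorem fam_smul {U : S.Opens} (r : Γ(S, U)) (x : Γ(FPi D, U)) (i : ι) :
    fam D (r • x) i = (f i).appLE U (f i ⁻¹ᵁ U) le_rfl r • fam D x i := by
  refine (LinearMap.map_smul (comp D U i) r x).trans ?_
  rw [← Scheme.Hom.app_eq_appLE]
  rfl

theorem fam_res {U V : S.Opens} (h : V ≤ U) (x : Γ(FPi D, U)) (i : ι) :
    fam D (res (FPi D) h x) i = res (Dm D i) ((f i).preimage_mono h) (fam D x i) := comp_res D h i x

/-- the subsheaf of compatible families -/
def sub : SubMod72.Sub (FPi D) where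
  carrier U :=
    { carrier := {x | Cmp D (fam D x)}
      add_mem' := fun {x y} hx hy i j => by
        rw [fam_add, fam_add]
        exact (hx i j).add (hy i j)
      zero_mem' := fun i j => by
        rw [show fam D (0 : Γ(FPi D, U)) i = 0 from map_zero (comp D U i),
          show fam D (0 : Γ(FPi D, U)) j = 0 from map_zero (comp D U j)]
        exact Rel.zero
      smul_mem' := fun r x hx i j => by
        rw [fam_smul, fam_smul]
        exact (hx i j).smul le_rfl le_rfl r }
  res_mem {V W} h x hx i j := by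
    rw [fam_res, fam_res]
    exact (hx i j).res _ _
  local_mem {W} x hx i j := by
    refine Rel.of_local_left fun p hp => ?_
    obtain ⟨V, hV, hpV, hc⟩ := hx (f i p) hp
    refine ⟨f i ⁻¹ᵁ V, (f i).preimage_mono hV, hpV, Rel.of_local_right fun p' hp' => ?_⟩
    obtain ⟨V', hV', hpV', hc'⟩ := hx (f j p') hp'
    refine ⟨f j ⁻¹ᵁ V', (f j).preimage_mono hV', hpV', fun T a b t ea eb Wt wa wb => ?_⟩
    have wa' : Wt ≤ a ⁻¹ᵁ (f i ⁻¹ᵁ V') := by
      intro z hz
      show f i (a z) ∈ V'
      rw [← Scheme.Hom.comp_apply, ea, ← eb, Scheme.Hom.comp_apply]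
      exact wb hz
    have h2 : Rel D (res (Dm D i) ((f i).preimage_mono hV') (fam D x i))
        (res (Dm D j) ((f j).preimage_mono hV') (fam D x j)) := by
      have h3 := hc' i j
      rwa [fam_res, fam_res] at h3
    rw [← h2 T a b t ea eb Wt wa' wb, sig_res D ea eb (wa.trans (a.preimage_mono ((f i).preimage_mono hV)))
      wa' ((f i).preimage_mono hV') le_rfl, sig_res D ea eb (wa.trans (a.preimage_mono ((f i).preimage_mono hV)))
      wa ((f i).preimage_mono hV) le_rfl]

/-- the descended module -/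
def dmod : S.Modules := SubMod72.toMod (sub D)

/-- its projections -/
def dπ (i : ι) : dmod D ⟶ Pf D i := SubMod72.toModι (sub D) ≫ Pi.π (Pf D) i

/-- the family of a section -/
def mfam {U : S.Opens} (x : Γ(dmod D, U)) (i : ι) : Γ(Dm D i, f i ⁻¹ᵁ U) := (dπ D i).app U x

theorem mfam_cmp {U : S.Opens} (x : Γ(dmod D, U)) : Cmp D (mfam D x) :=
  ((SubMod72.mem_iff_exists (sub D) _).mpr ⟨x, rfl⟩ : Cmp D (fam D ((SubMod72.toModι (sub D)).app U x)))

theorem mfam_injective {U : S.Opens} : Function.Injective (mfam D (U := U)) := fun x y h =>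
  app_injective_of_mono (SubMod72.toModι (sub D)) U ((comp_bijective D U).1 h)

theorem exists_of_cmp {U : S.Opens} {m : ∀ i, Γ(Dm D i, f i ⁻¹ᵁ U)} (hm : Cmp D m) :
    ∃ x : Γ(dmod D, U), mfam D x = m := by
  obtain ⟨z, hz⟩ := (comp_bijective D U).2 m
  obtain ⟨x, hx⟩ := (SubMod72.mem_iff_exists (sub D) z).mp (show Cmp D (fam D z) from by
    rw [show fam D z = m from hz]; exact hm)
  exact ⟨x, (congrArg (fam D) hx).trans hz⟩

theorem mfam_res {U V : S.Opens} (h : V ≤ U) (x : Γ(dmod D, U)) (i : ι) :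
    mfam D (res (dmod D) h x) i = res (Dm D i) ((f i).preimage_mono h) (mfam D x i) :=
  app_res (dπ D i) h x

theorem mfam_smul {U : S.Opens} (r : Γ(S, U)) (x : Γ(dmod D, U)) (i : ι) :
    mfam D (r • x) i = (f i).appLE U (f i ⁻¹ᵁ U) le_rfl r • mfam D x i := by
  refine (Scheme.Modules.Hom.app_smul (dπ D i) r x).trans ?_
  rw [← Scheme.Hom.app_eq_appLE]
  rfl

theorem mfam_zero {U : S.Opens} (i : ι) : mfam D (0 : Γ(dmod D, U)) i = 0 := map_zero _

variable [QuasiCompactCover (⟨ι, X, f⟩ : PreZeroHypercover.{u} S)] [∀ i, Flat (f i)]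
  [∀ i, (Dm D i).IsQuasicoherent]

omit [∀ i, Flat (f i)] [∀ i, (Dm D i).IsQuasicoherent] in
theorem exists_pieces {U : S.Opens} (hU : IsAffineOpen U) :
    ∃ (n : ℕ) (P : Fin n → Pc f U), ∀ x ∈ U, ∃ k, ∃ v ∈ (P k).V, f (P k).idx v = x := by
  obtain ⟨n, s, V, hV, hcov⟩ := QuasiCompactCover.exists_isAffineOpen_of_isCompact
    (⟨ι, X, f⟩ : PreZeroHypercover.{u} S) hU.isCompact
  refine ⟨n, fun k => ⟨s k, V k, hV k, fun x hx => ?_⟩, fun x hx => ?_⟩
  · show f (s k) x ∈ (U : Set S)
    rw [← hcov]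
    exact Set.mem_iUnion.mpr ⟨k, x, hx, rfl⟩
  · rw [← SetLike.mem_coe, ← hcov] at hx
    obtain ⟨k, v, hv, e⟩ := Set.mem_iUnion.mp hx
    exact ⟨k, v, hv, e⟩

theorem appLE_res {Y : Scheme.{u}} {g : Y ⟶ S} {U : S.Opens} {V V' : Y.Opens} (e : V ≤ g ⁻¹ᵁ U) (h : V' ≤ V)
    (r : Γ(S, U)) : resO Y h (g.appLE U V e r) = g.appLE U V' (h.trans e) r :=
  ConcreteCategory.congr_hom (g.appLE_map e (homOfLE h).op) r

theorem isLocAt_dmod {U : S.Opens} (hU : IsAffineOpen U) : IsLocAt (dmod D) U := by
  obtain ⟨N, P, hcov⟩ := exists_pieces (f := f) hU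
  let g' : Γ(S, U) → ∀ k, Γ(X (P k).idx, (P k).V) := fun g k => (f (P k).idx).appLE U (P k).V (P k).le g
  have hpre : ∀ g k, (X (P k).idx).basicOpen (g' g k) ≤ f (P k).idx ⁻¹ᵁ S.basicOpen g := fun g k => by
    simp only [g']
    rw [Scheme.basicOpen_appLE]
    exact inf_le_right
  constructor
  · intro g s
    let o : ∀ k, Γ(Dm D (P k).idx, (X (P k).idx).basicOpen (g' g k)) := fun k =>
      res (Dm D (P k).idx) (hpre g k) (mfam D s (P k).idx)
    choose a t ht using fun k =>
      (isLocAt_of_isQuasicoherent (Dm D (P k).idx) (P k).hV).exists_of (g' g k) (o k)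
    let N₁ := ∑ k, a k
    let n : ∀ k, Γ(Dm D (P k).idx, (P k).V) := fun k => g' g k ^ (N₁ - a k) • t k
    have hn : ∀ k, res (Dm D (P k).idx) ((X (P k).idx).basicOpen_le (g' g k)) (n k) =
        resO _ ((X (P k).idx).basicOpen_le (g' g k)) (g' g k) ^ N₁ • o k := fun k => by
      rw [res_smul, ht, smul_smul, resO_pow, ← pow_add,
        Nat.sub_add_cancel (Finset.single_le_sum (fun _ _ => Nat.zero_le _) (Finset.mem_univ k))]
    have hdiff : ∀ k l, ∃ M₁ : ℕ, Rel D (g' g k ^ M₁ • n k) (g' g l ^ M₁ • n l) := by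
      intro k l
      let ch := Chart.std Γ(S, U) (X (P l).idx) (P l).V Γ(X (P k).idx, (P k).V) (P l).hV
      let a₀ := pt (P k).hV (incL (P k) (P l))
      have wa := pt_le (P k).hV (incL (P k) (P l))
      let d := sig0 (P k) (P l) D hU (n k) - unitSec ch.map (Dm D (P l).idx) ch.le (n l)
      let c : Γ(Spec (C2 (P k) (P l)), ⊤) := a₀.appLE (P k).V ⊤ wa (g' g k)
      have hc : c = ch.map.appLE (P l).V ⊤ ch.le (g' g l) := by
        show ((f (P k).idx).appLE U (P k).V (P k).le ≫ a₀.appLE (P k).V ⊤ wa) g =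
          ((f (P l).idx).appLE U (P l).V (P l).le ≫ ch.map.appLE (P l).V ⊤ ch.le) g
        rw [Scheme.Hom.appLE_comp_appLE, Scheme.Hom.appLE_comp_appLE]
        simp only [a₀, ch, base_incL (P k) (P l) hU]
      have ewa : (Spec (C2 (P k) (P l))).basicOpen c ≤ a₀ ⁻¹ᵁ (X (P k).idx).basicOpen (g' g k) := by
        simp only [c]
        rw [Scheme.basicOpen_appLE]
        exact inf_le_right
      have ewb : (Spec (C2 (P k) (P l))).basicOpen c ≤ ch.map ⁻¹ᵁ (X (P l).idx).basicOpen (g' g l) := by
        rw [hc, Scheme.basicOpen_appLE]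
        exact inf_le_right
      have hd : res ((Scheme.Modules.pullback ch.map).obj (Dm D (P l).idx))
          ((Spec (C2 (P k) (P l))).basicOpen_le c) d = 0 := by
        have h0 : Rel D (o k) (o l) := (mfam_cmp D s (P k).idx (P l).idx).res (hpre g k) (hpre g l)
        have e1 : res _ ((Spec (C2 (P k) (P l))).basicOpen_le c) (sig0 (P k) (P l) D hU (n k)) =
            resO _ ((Spec (C2 (P k) (P l))).basicOpen_le c) c ^ N₁ •
              sig D (base_incL (P k) (P l) hU) (rfl : ch.map ≫ f (P l).idx = ch.map ≫ f (P l).idx) ewa (o k) := by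
          rw [sig0, ← sig_res D (base_incL (P k) (P l) hU) rfl wa ewa ((X (P k).idx).basicOpen_le _)
            ((Spec (C2 (P k) (P l))).basicOpen_le c) (n k), hn, sig_smul, map_pow]
          congr 2
          exact (ConcreteCategory.congr_hom (a₀.map_appLE ewa
            (homOfLE ((X (P k).idx).basicOpen_le (g' g k))).op) (g' g k)).trans
            (ConcreteCategory.congr_hom (a₀.appLE_map wa (homOfLE ((Spec (C2 (P k) (P l))).basicOpen_le c)).op) (g' g k)).symm
        have e2 : res _ ((Spec (C2 (P k) (P l))).basicOpen_le c) (unitSec ch.map (Dm D (P l).idx) ch.le (n l)) =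
            resO _ ((Spec (C2 (P k) (P l))).basicOpen_le c) c ^ N₁ •
              unitSec ch.map (Dm D (P l).idx) ewb (o l) := by
          rw [← unitSec_res ch.map (Dm D (P l).idx) ch.le ewb ((X (P l).idx).basicOpen_le _)
            ((Spec (C2 (P k) (P l))).basicOpen_le c) (n l), hn, unitSec_smul, map_pow]
          congr 2
          refine (ConcreteCategory.congr_hom (ch.map.map_appLE ewb
            (homOfLE ((X (P l).idx).basicOpen_le (g' g l))).op) (g' g l)).trans ?_
          refine (ConcreteCategory.congr_hom (ch.map.appLE_map ch.le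
            (homOfLE ((Spec (C2 (P k) (P l))).basicOpen_le c)).op) (g' g l)).symm.trans ?_
          exact congrArg (resO (Spec (C2 (P k) (P l))) ((Spec (C2 (P k) (P l))).basicOpen_le c)) hc.symm
        rw [res_sub, e1, e2, h0 _ _ _ _ (base_incL (P k) (P l) hU) rfl _ ewa ewb, sub_self]
      have : ((Scheme.Modules.pullback ch.map).obj (Dm D (P l).idx)).IsQuasicoherent :=
        QCPull72.isQuasicoherent_pullback _ _
      obtain ⟨M₁, hM⟩ := (isLocAt_of_isQuasicoherent ((Scheme.Modules.pullback ch.map).obj (Dm D (P l).idx))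
        (isAffineOpen_top _)).eq_zero_of c d hd
      refine ⟨M₁, rel_of_ψ (P k) (P l) D hU ?_⟩
      refine (Chart.std_bijective (Dm D (P l).idx) Γ(X (P k).idx, (P k).V) (P l).hV).1 ?_
      rw [Φ_ψ, Chart.Φ_one]
      show sig0 (P k) (P l) D hU _ = unitSec ch.map (Dm D (P l).idx) ch.le _
      rw [sig0, sig_smul, unitSec_smul, map_pow, map_pow, ← hc]
      refine sub_eq_zero.mp ?_
      rw [← smul_sub]
      exact hM
    choose M₁ hM₁ using hdiff
    let M₂ := ∑ k, ∑ l, M₁ k l
    let m : ∀ k, Γ(Dm D (P k).idx, (P k).V) := fun k => g' g k ^ M₂ • n k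
    have hm : ∀ k l, Rel D (m k) (m l) := fun k l => by
      have hle : M₁ k l ≤ M₂ := le_trans (Finset.single_le_sum (f := fun l => M₁ k l) (fun _ _ => Nat.zero_le _) (Finset.mem_univ l))
        (Finset.single_le_sum (f := fun k => ∑ l, M₁ k l) (fun _ _ => Nat.zero_le _) (Finset.mem_univ k))
      have h1 := (hM₁ k l).smul (P k).le (P l).le (g ^ (M₂ - M₁ k l))
      rw [map_pow, map_pow] at h1
      have e : ∀ k', g' g k' ^ (M₂ - M₁ k l) • g' g k' ^ M₁ k l • n k' = m k' := fun k' => by
        show _ = g' g k' ^ M₂ • n k'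
        rw [← mul_smul, ← pow_add, Nat.sub_add_cancel hle]
      rw [← e k, ← e l]
      exact h1
    obtain ⟨w, hw, -, hw'⟩ := exists_ext P hU hcov m hm
    obtain ⟨x, rfl⟩ := exists_of_cmp D hw
    refine ⟨M₂ + N₁, x, mfam_injective D (funext fun i => ?_)⟩
    refine eq_of_rel D (fun k => (P k).idx) (fun k => (X (P k).idx).basicOpen (g' g k))
      (fun k => resO _ ((X (P k).idx).basicOpen_le (g' g k)) (g' g k) ^ (M₂ + N₁) • o k)
      (U := S.basicOpen g) (fun p hp => ?_) le_rfl (fun k => ?_) (fun k => ?_)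
    · obtain ⟨k, v, hv, rfl⟩ := hcov p (S.basicOpen_le g hp)
      refine ⟨k, v, ?_, rfl⟩
      simp only [g']
      rw [Scheme.basicOpen_appLE]
      exact ⟨hv, hp⟩
    · rw [mfam_res]
      have h1 := (hw (P k).idx i).res ((X (P k).idx).basicOpen_le (g' g k) |>.trans (P k).le)
        ((f i).preimage_mono (S.basicOpen_le g))
      rw [← res_res (M := Dm D (P k).idx) (P k).le ((X (P k).idx).basicOpen_le (g' g k)), hw'] at h1
      simp only [m] at h1
      rw [res_smul, hn, resO_pow, smul_smul, ← pow_add] at h1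
      exact h1
    · rw [mfam_smul]
      have h1 := ((mfam_cmp D s (P k).idx i).res (hpre g k) (le_refl _)).smul (U := S.basicOpen g) (hpre g k) le_rfl
        (resO S (S.basicOpen_le g) g ^ (M₂ + N₁))
      rw [res_self] at h1
      refine Eq.mp ?_ h1
      congr 2
      rw [map_pow, appLE_res]
      exact congrArg (· ^ _) (ConcreteCategory.congr_hom ((f (P k).idx).map_appLE (hpre g k) (homOfLE (S.basicOpen_le g)).op) g)
  · intro g t ht
    have h0 : ∀ k, res (Dm D (P k).idx) ((X (P k).idx).basicOpen_le (g' g k))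
        (res (Dm D (P k).idx) (P k).le (mfam D t (P k).idx)) = 0 := by
      intro k
      have e := congrArg (fun z => res (Dm D (P k).idx) (hpre g k) (mfam D z (P k).idx)) ht
      simp only [mfam_res, mfam_zero, res_zero, res_res] at e
      rw [res_res]
      exact e
    choose a ha using fun k => (isLocAt_of_isQuasicoherent (Dm D (P k).idx) (P k).hV).eq_zero_of (g' g k) _ (h0 k)
    refine ⟨∑ k, a k, mfam_injective D ?_⟩
    refine ext_unique P hcov (mfam_cmp D _) (mfam_cmp D _) fun k => ?_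
    rw [mfam_smul, mfam_zero, res_zero, res_smul, appLE_res, map_pow,
      ← Nat.sub_add_cancel (Finset.single_le_sum (fun _ _ => Nat.zero_le _) (Finset.mem_univ k) : a k ≤ ∑ k, a k),
      pow_add, mul_smul, ha, smul_zero]

theorem isQuasicoherent_dmod : (dmod D).IsQuasicoherent :=
  isQuasicoherent_of_forall_isLocAt _ fun _ hU => isLocAt_dmod D hU

end Groth.Agent.Desc59.QEff
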