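import Groth.Agent.Desc59.QEff.Datum
import Groth.Agent.Desc59.QEff.Alg

/-!
Affine pieces of the covering over an affine open, and the descent datum in their coordinates.
-/

set_option autoImplicit false
set_option backward.isDefEq.respectTransparency false
set_option backward.isDefEq.respectTransparency.types false
set_option linter.style.haveILetI false
set_option linter.unusedSectionVars false

noncomputable section

universe u

open CategoryTheory Limits AlgebraicGeometry Opposite TopologicalSpace TensorProduct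
open Groth.Agent.QC70 Groth.Agent.QCPull72 Groth.Agent.LimTop61

namespace Groth.Agent.Desc59.QEff

open Chart

variable {ι : Type u} {S : Scheme.{u}} {X : ι → Scheme.{u}} {f : ∀ i, X i ⟶ S}

/-- an affine piece of the covering over `U` -/
structure Pc (f : ∀ i, X i ⟶ S) (U : S.Opens) where
  /-- the member -/
  idx : ι
  /-- the open -/
  V : (X idx).Opens
  hV : IsAffineOpen V
  le : V ≤ f idx ⁻¹ᵁ U

variable {U : S.Opens} (p q r : Pc f U) (D : Desc.modPF.{u}.DescentData f)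

instance algPc : Algebra Γ(S, U) Γ(X p.idx, p.V) := ((f p.idx).appLE U p.V p.le).hom.toAlgebra

instance modPc : Module Γ(S, U) Γ(Dm D p.idx, p.V) :=
  Module.compHom Γ(Dm D p.idx, p.V) (algebraMap Γ(S, U) Γ(X p.idx, p.V))

instance towerPc : IsScalarTower Γ(S, U) Γ(X p.idx, p.V) Γ(Dm D p.idx, p.V) :=
  IsScalarTower.of_algebraMap_smul fun _ _ => rfl

/-- the ring of a pair of pieces -/
abbrev C2 : CommRingCat.{u} := C0 Γ(S, U) (X q.idx) q.V Γ(X p.idx, p.V)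

/-- first coordinates on a pair -/
abbrev incL : Γ(X p.idx, p.V) ⟶ C2 p q :=
  CommRingCat.ofHom (Algebra.TensorProduct.includeLeftRingHom (R := Γ(S, U)) (A := Γ(X p.idx, p.V)) (B := Γ(X q.idx, q.V)))

theorem base_incL (hU : IsAffineOpen U) :
    pt p.hV (incL p q) ≫ f p.idx = (std Γ(S, U) (X q.idx) q.V Γ(X p.idx, p.V) q.hV).map ≫ f q.idx :=
  pt_base p.hV q.hV hU (f p.idx) (f q.idx) p.le q.le (incL p q) (incR Γ(S, U) (X q.idx) q.V Γ(X p.idx, p.V))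
    (by ext x; exact Algebra.TensorProduct.tmul_one_eq_one_tmul x)

/-- transport from the first to the second piece -/
def sig0 (hU : IsAffineOpen U) : Γ(Dm D p.idx, p.V) →+
    Γ((Scheme.Modules.pullback (std Γ(S, U) (X q.idx) q.V Γ(X p.idx, p.V) q.hV).map).obj (Dm D q.idx), ⊤) :=
  sig D (base_incL p q hU) rfl (pt_le p.hV (incL p q))

variable (hU : IsAffineOpen U) [∀ i, (Dm D i).IsQuasicoherent]

/-- the descent datum in coordinates, as an additive map -/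
def ψ₀ : Γ(Dm D p.idx, p.V) →+ Γ(X p.idx, p.V) ⊗[Γ(S, U)] Γ(Dm D q.idx, q.V) :=
  (AddEquiv.ofBijective _ (std_bijective (Dm D q.idx) Γ(X p.idx, p.V) q.hV)).symm.toAddMonoidHom.comp
    (sig0 p q D hU)

theorem Φ_ψ₀ (n : Γ(Dm D p.idx, p.V)) :
    Φ (Dm D q.idx) (std Γ(S, U) (X q.idx) q.V Γ(X p.idx, p.V) q.hV) (ψ₀ p q D hU n) = sig0 p q D hU n :=
  (AddEquiv.ofBijective _ (std_bijective (Dm D q.idx) Γ(X p.idx, p.V) q.hV)).apply_symm_apply _

theorem ψ₀_smul (b : Γ(X p.idx, p.V)) (n : Γ(Dm D p.idx, p.V)) :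
    ψ₀ p q D hU (b • n) = b • ψ₀ p q D hU n := by
  refine (std_bijective (Dm D q.idx) Γ(X p.idx, p.V) q.hV).1 ?_
  rw [Φ_ψ₀, Φ_smul, Φ_ψ₀, sig0, sig_smul, pt_appLE]
  rfl

/-- the descent datum in coordinates -/
def ψ : Γ(Dm D p.idx, p.V) →ₗ[Γ(S, U)] Γ(X p.idx, p.V) ⊗[Γ(S, U)] Γ(Dm D q.idx, q.V) where
  toFun := ψ₀ p q D hU
  map_add' := map_add _
  map_smul' a n := by
    rw [RingHom.id_apply, ← algebraMap_smul Γ(X p.idx, p.V) a n, ψ₀_smul, algebraMap_smul]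

theorem Φ_ψ (n : Γ(Dm D p.idx, p.V)) :
    Φ (Dm D q.idx) (std Γ(S, U) (X q.idx) q.V Γ(X p.idx, p.V) q.hV) (ψ p q D hU n) = sig0 p q D hU n :=
  Φ_ψ₀ p q D hU n

theorem ψ_smul (b : Γ(X p.idx, p.V)) (n : Γ(Dm D p.idx, p.V)) : ψ p q D hU (b • n) = b • ψ p q D hU n :=
  ψ₀_smul p q D hU b n

theorem ψ_of_rel {n : Γ(Dm D p.idx, p.V)} {n' : Γ(Dm D q.idx, q.V)} (h : Rel D n n') :
    ψ p q D hU n = (1 : Γ(X p.idx, p.V)) ⊗ₜ n' := by
  refine (std_bijective (Dm D q.idx) Γ(X p.idx, p.V) q.hV).1 ?_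
  rw [Φ_ψ, Φ_one]
  exact h _ _ _ _ (base_incL p q hU) rfl ⊤ _ _

theorem exists_factor {T : Scheme.{u}} (a : T ⟶ X p.idx) (b : T ⟶ X q.idx) (hab : a ≫ f p.idx = b ≫ f q.idx)
    {W' : T.Opens} (hW' : IsAffineOpen W') (wa : W' ≤ a ⁻¹ᵁ p.V) (wb : W' ≤ b ⁻¹ᵁ q.V) :
    ∃ γ : C2 p q ⟶ Γ(T, W'), Spec.map γ ≫ pt p.hV (incL p q) = hW'.fromSpec ≫ a ∧
      Spec.map γ ≫ (std Γ(S, U) (X q.idx) q.V Γ(X p.idx, p.V) q.hV).map = hW'.fromSpec ≫ b := by
  let la := a.appLE p.V W' wa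
  let lb := b.appLE q.V W' wb
  have hlab : ∀ x : Γ(S, U), la (algebraMap Γ(S, U) Γ(X p.idx, p.V) x) = lb (algebraMap Γ(S, U) Γ(X q.idx, q.V) x) := by
    intro x
    show ((f p.idx).appLE U p.V p.le ≫ a.appLE p.V W' _) x = ((f q.idx).appLE U q.V q.le ≫ b.appLE q.V W' _) x
    rw [Scheme.Hom.appLE_comp_appLE, Scheme.Hom.appLE_comp_appLE]
    simp only [hab]
  letI : Algebra Γ(S, U) Γ(T, W') := (la.hom.comp (algebraMap Γ(S, U) Γ(X p.idx, p.V))).toAlgebra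
  let la' : Γ(X p.idx, p.V) →ₐ[Γ(S, U)] Γ(T, W') := { la.hom with commutes' := fun x => rfl }
  let lb' : Γ(X q.idx, q.V) →ₐ[Γ(S, U)] Γ(T, W') := { lb.hom with commutes' := fun x => (hlab x).symm }
  have hc : ∀ x y, Commute (la' x) (lb' y) := fun x y => Commute.all _ _
  let γ : C2 p q ⟶ Γ(T, W') := CommRingCat.ofHom (Algebra.TensorProduct.lift la' lb' hc).toRingHom
  refine ⟨γ, ?_, ?_⟩
  · rw [pt_comp p.hV (incL p q) la γ (by
      ext x
      exact (Algebra.TensorProduct.lift_tmul la' lb' hc x 1).trans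
        ((congrArg (la' x * ·) (map_one lb')).trans (mul_one _)))]
    exact p.hV.SpecMap_appLE_fromSpec a hW' wa
  · show Spec.map γ ≫ pt q.hV (incR Γ(S, U) (X q.idx) q.V Γ(X p.idx, p.V)) = _
    rw [pt_comp q.hV (incR Γ(S, U) (X q.idx) q.V Γ(X p.idx, p.V)) lb γ (by
      ext x
      exact (Algebra.TensorProduct.lift_tmul la' lb' hc 1 x).trans
        ((congrArg (· * lb' x) (map_one la')).trans (one_mul _)))]
    exact q.hV.SpecMap_appLE_fromSpec b hW' wb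

theorem rel_of_ψ {n : Γ(Dm D p.idx, p.V)} {n' : Γ(Dm D q.idx, q.V)}
    (h : ψ p q D hU n = (1 : Γ(X p.idx, p.V)) ⊗ₜ n') : Rel D n n' := by
  refine rel_of_chart (std Γ(S, U) (X q.idx) q.V Γ(X p.idx, p.V) q.hV) (base_incL p q hU) rfl
    (pt_le p.hV (incL p q)) n n' ?_ fun T a b hab W' hW' wa wb => exists_factor p q a b hab hW' wa wb
  show sig0 p q D hU n = _
  rw [← Φ_ψ p q D hU n, h, Φ_one]

theorem ψ_unit (n : Γ(Dm D p.idx, p.V)) :
    TensorProduct.lift (Algebra.lsmul Γ(S, U) Γ(S, U) Γ(Dm D p.idx, p.V)).toLinearMap (ψ p p D hU n) = n := by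
  refine unitSec_pt_id_injective p.hV (Dm D p.idx) _ _ ?_
  let γ : C2 p p ⟶ Γ(X p.idx, p.V) :=
    CommRingCat.ofHom (Algebra.TensorProduct.lmul' Γ(S, U) (S := Γ(X p.idx, p.V))).toRingHom
  exact unit_core (std Γ(S, U) (X p.idx) p.V Γ(X p.idx, p.V) p.hV) (base_incL p p hU) rfl (pt_le p.hV (incL p p)) γ
    (rfl : pt p.hV (𝟙 _) ≫ f p.idx = _)
    (pt_comp p.hV (incL p p) (𝟙 _) γ (by
      ext x
      exact (Algebra.TensorProduct.lmul'_apply_tmul x 1).trans (mul_one x)))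
    (pt_comp p.hV (incR Γ(S, U) (X p.idx) p.V Γ(X p.idx, p.V)) (𝟙 _) γ (by
      ext x
      exact (Algebra.TensorProduct.lmul'_apply_tmul 1 x).trans (one_mul x)))
    (pt_le p.hV _)
    (fun b => by
      rw [pt_appLE]
      exact congrArg _ ((Algebra.TensorProduct.lmul'_apply_tmul b 1).trans (mul_one b)).symm)
    n _ (Φ_ψ p p D hU n)

theorem ψ_cocycle (n : Γ(Dm D p.idx, p.V)) :
    (ψ q r D hU).lTensor Γ(X p.idx, p.V) (ψ p q D hU n) =
      (TensorProduct.mk Γ(S, U) Γ(X q.idx, q.V) Γ(Dm D r.idx, r.V) 1).lTensor Γ(X p.idx, p.V) (ψ p r D hU n) := by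
  let P := Γ(X p.idx, p.V)
  let Q := Γ(X q.idx, q.V)
  let C3 := C0 Γ(S, U) (X r.idx) r.V (P ⊗[Γ(S, U)] Q)
  let φp : Γ(X p.idx, p.V) ⟶ C3 :=
    CommRingCat.ofHom (Algebra.TensorProduct.includeLeftRingHom.comp
      (Algebra.TensorProduct.includeLeftRingHom (R := Γ(S, U)) (A := P) (B := Q)))
  let φq : Γ(X q.idx, q.V) ⟶ C3 :=
    CommRingCat.ofHom (Algebra.TensorProduct.includeLeftRingHom.comp
      (Algebra.TensorProduct.includeRight (R := Γ(S, U)) (A := P) (B := Q)).toRingHom)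
  let γpq : C2 p q ⟶ C3 :=
    CommRingCat.ofHom (Algebra.TensorProduct.includeLeftRingHom (R := Γ(S, U)) (A := P ⊗[Γ(S, U)] Q) (B := Γ(X r.idx, r.V)))
  let γqr : C2 q r ⟶ C3 := CommRingCat.ofHom (Algebra.TensorProduct.map
    (Algebra.TensorProduct.includeRight (R := Γ(S, U)) (A := P) (B := Q)) (AlgHom.id Γ(S, U) Γ(X r.idx, r.V))).toRingHom
  let γpr : C2 p r ⟶ C3 := CommRingCat.ofHom (Algebra.TensorProduct.map
    (Algebra.TensorProduct.includeLeft (R := Γ(S, U)) (S := Γ(S, U)) (A := P) (B := Q)) (AlgHom.id Γ(S, U) Γ(X r.idx, r.V))).toRingHom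
  exact cocycle_core (std Γ(S, U) (X q.idx) q.V P q.hV) (std Γ(S, U) (X r.idx) r.V Q r.hV)
    (std Γ(S, U) (X r.idx) r.V P r.hV) (std Γ(S, U) (X r.idx) r.V (P ⊗[Γ(S, U)] Q) r.hV)
    (base_incL p q hU) rfl (pt_le p.hV _) (base_incL q r hU) rfl (pt_le q.hV _) (base_incL p r hU) rfl (pt_le p.hV _)
    (a3 := pt p.hV φp) (b3 := pt q.hV φq)
    (pt_base p.hV r.hV hU (f p.idx) (f r.idx) p.le r.le φp (incR Γ(S, U) (X r.idx) r.V (P ⊗[Γ(S, U)] Q))
      (by ext x; exact Algebra.TensorProduct.tmul_one_eq_one_tmul (A := P ⊗[Γ(S, U)] Q) x))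
    (pt_base q.hV r.hV hU (f q.idx) (f r.idx) q.le r.le φq (incR Γ(S, U) (X r.idx) r.V (P ⊗[Γ(S, U)] Q))
      (by
        ext x
        exact (congrArg (fun y : P ⊗[Γ(S, U)] Q => y ⊗ₜ[Γ(S, U)] (1 : Γ(X r.idx, r.V)))
          (Algebra.TensorProduct.tmul_one_eq_one_tmul x).symm).trans
          (Algebra.TensorProduct.tmul_one_eq_one_tmul (A := P ⊗[Γ(S, U)] Q) x)))
    rfl (pt_le p.hV φp) (pt_le q.hV φq) γpq γqr γpr
    (pt_comp p.hV _ φp γpq rfl) (pt_comp q.hV _ φq γpq rfl)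
    (pt_comp q.hV _ φq γqr (by
      ext x
      exact (Algebra.TensorProduct.map_tmul _ _ x (1 : Γ(X r.idx, r.V))).trans rfl))
    (pt_comp r.hV _ _ γqr (by
      ext x
      exact (Algebra.TensorProduct.map_tmul _ _ (1 : Q) x).trans (by rw [map_one]; rfl)))
    (pt_comp p.hV _ φp γpr (by
      ext x
      exact (Algebra.TensorProduct.map_tmul _ _ x (1 : Γ(X r.idx, r.V))).trans rfl))
    (pt_comp r.hV _ _ γpr (by
      ext x
      exact (Algebra.TensorProduct.map_tmul _ _ (1 : P) x).trans (by rw [map_one]; rfl)))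
    (fun b => rfl)
    (fun b => (Algebra.TensorProduct.map_tmul _ _ b (1 : Γ(X r.idx, r.V))).trans rfl)
    (fun b => (Algebra.TensorProduct.map_tmul _ _ b (1 : Γ(X r.idx, r.V))).trans rfl)
    (std_bijective (Dm D r.idx) (P ⊗[Γ(S, U)] Q) r.hV).1
    (ψ p q D hU) (ψ q r D hU) (ψ p r D hU) (Φ_ψ p q D hU) (Φ_ψ q r D hU) (Φ_ψ p r D hU) n

end Groth.Agent.Desc59.QEff
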